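import Cfsg.Agent.Lib.Co2Mult.CoverDefs
import Cfsg.Agent.Lib.Co2Mult.Data
import Cfsg.Agent.Lib.Co2Mult.AuxData

/-! Kernel checks for the covering argument on the vectors of inner product -1. -/

set_option autoImplicit false
set_option maxRecDepth 20000
set_option Elab.async false

namespace Cfsg.Agent.Co2Mult

open Cfsg.Agent.LeechMod Cfsg.Agent.SporPerm
open Cfsg.Agent.LeechOrbit (dec treeOK smallOK colsOK eCode)
open Cfsg.Agent.Co1Mult (ipV countIp allBlock)

theorem w_code : eqV (dec 24 wCode2) ((-3) :: List.replicate 23 1) = true := by decide +kernel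

theorem u_code : eqV (dec 24 uCode) (List.replicate 23 1 ++ [-3]) = true := by decide +kernel

theorem base_roots : vtxOK wCode2 uCode 2 = true ∧ vtxOK wCode2 x0Code 0 = true ∧ vtxOK wCode2 x1Code 1 = true ∧
    vtxOK wCode2 y2Code 2 = true ∧ vtxOK wCode2 yCode (-2) = true ∧ vtxOK wCode2 zCode (-1) = true ∧
    vtxOK wCode2 yRoot (-2) = true ∧ vtxOK wCode2 zRoot (-1) = true := by decide +kernel

theorem level_roots : vtxOK wCode2 lrootP1 1 = true ∧ vtxOK wCode2 lrootZ0 0 = true ∧
    vtxOK wCode2 lrootN2 (-2) = true ∧ vtxOK wCode2 lrootN1 (-1) = true := by decide +kernel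

theorem base_adj : ipV uCode x0Code = 10 ∧ ipV uCode x1Code = 10 ∧ ipV uCode y2Code = 10 ∧
    ipV x0Code yCode = 10 ∧ ipV x0Code zCode = 10 := by decide +kernel

theorem m_ok0 : genOK mMat0 [wCode2] = true := by decide +kernel
theorem m_ok1 : genOK mMat1 [wCode2] = true := by decide +kernel
theorem e_ok0 : genOK eMat0 [wCode2, uCode] = true := by decide +kernel
theorem e_ok1 : genOK eMat1 [wCode2, uCode] = true := by decide +kernel
theorem s_ok0 : genOK sMat0 [wCode2, x0Code] = true := by decide +kernel
theorem s_ok1 : genOK sMat1 [wCode2, x0Code] = true := by decide +kernel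
theorem y_move : moveOK yMove yCode wCode2 yRoot = true := by decide +kernel
theorem z_move : moveOK zMove zCode wCode2 zRoot = true := by decide +kernel

theorem gens_small : ([mMat0, mMat1].all smallOK && [eMat0, eMat1].all smallOK &&
    [sMat0, sMat1].all smallOK) = true := by decide +kernel

theorem m_cols : List.Forall₂ (fun M P => colsOK M P = true) [mMat0, mMat1] mCols := by
  rw [show mCols = [mCols.getD 0 ([], 0), mCols.getD 1 ([], 0)] from rfl]
  refine List.Forall₂.cons ?_ (List.Forall₂.cons ?_ List.Forall₂.nil) <;> decide +kernel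

theorem e_cols : List.Forall₂ (fun M P => colsOK M P = true) [eMat0, eMat1] eCols := by
  rw [show eCols = [eCols.getD 0 ([], 0), eCols.getD 1 ([], 0)] from rfl]
  refine List.Forall₂.cons ?_ (List.Forall₂.cons ?_ List.Forall₂.nil) <;> decide +kernel

theorem s_cols : List.Forall₂ (fun M P => colsOK M P = true) [sMat0, sMat1] sCols := by
  rw [show sCols = [sCols.getD 0 ([], 0), sCols.getD 1 ([], 0)] from rfl]
  refine List.Forall₂.cons ?_ (List.Forall₂.cons ?_ List.Forall₂.nil) <;> decide +kernel

theorem v_tree : treeOK mCols uCode vTree = true := by decide +kernel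

theorem v_len : (Nat.beq vTree.flatten.length 2025 &&
    allBlock (fun i => Nat.blt (i % 64) (vTree.getD (i / 64) []).length) 2025 &&
    PermCert.allBelow (fun b => Nat.ble (vTree.getD b []).length 64 &&
      Nat.ble (64 * b + (vTree.getD b []).length) 2025) vTree.length) = true := by decide +kernel

theorem e_trees : (treeOK eCols x0Code eTree0 && Nat.beq eTree0.flatten.length 330 &&
    treeOK eCols x1Code eTree1 && Nat.beq eTree1.flatten.length 1232 &&
    treeOK eCols y2Code eTree2 && Nat.beq eTree2.flatten.length 462) = true := by decide +kernel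

theorem s_trees : (treeOK sCols yCode sTree2 && Nat.beq sTree2.flatten.length 7 &&
    treeOK sCols zCode sTree1 && Nat.beq sTree1.flatten.length 336) = true := by decide +kernel

theorem v_counts : countIp vTree x0Code 10 = 30 ∧ countIp vTree x1Code 10 = 162 ∧
    countIp vTree uCode 10 = 462 ∧ countIp vTree yRoot 8 = 567 ∧ countIp vTree zRoot 8 = 1050 := by
  decide +kernel

theorem level_P1 : classOK2 vTree lauxP1 lrootP1 9 lbaseP1 = true := by decide +kernel

theorem level_Z0 : classOK2 vTree lauxZ0 lrootZ0 8 lbaseZ0 = true := by decide +kernel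

theorem level_N2 : classOK2 vTree lauxN2 lrootN2 6 lbaseN2 = true := by decide +kernel

theorem level_N1 : classOK2 vTree lauxN1 lrootN1 7 lbaseN1 = true := by decide +kernel

end Cfsg.Agent.Co2Mult
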