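import Cfsg.Agent.Lib.Co1Mult.Codes

/-!
The Boolean conditions on the neighbourhood of a vertex in the graph on the vectors of inner product
-1 with the standard minimal vector.
-/

set_option autoImplicit false

namespace Cfsg.Agent.Co2Mult

open Cfsg Cfsg.Agent.Golay Cfsg.Agent.Leech Cfsg.Agent.LeechMod Cfsg.Agent.SporPerm
open Cfsg.Agent.LeechOrbit (dec)
open Cfsg.Agent.Co1Mult (ipV ipV_eq codeAt auxAt allBlock)

/-- The layer of an inner product with the root, shifted by 8. -/
def lay2 (t : ℕ) : ℕ :=
  bif Nat.beq t 12 then 0 else bif Nat.beq t 10 then 1 else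
    bif (Nat.beq t 9 || Nat.beq t 8) then 2 else 3

/-- The layer of an inner product with the root. -/
def layer2 (n : ℤ) : ℕ := lay2 (n + 8).toNat

theorem lay2_ipV {c d : ℕ} {x y : leechLattice} (hx : toVec (dec 24 c) = (x : GolayPt → ℤ))
    (hy : toVec (dec 24 d) = (y : GolayPt → ℤ)) (hb : -8 ≤ ip x y) : lay2 (ipV c d) = layer2 (ip x y) := by
  rw [layer2, ← ipV_eq hx hy hb, Int.toNat_natCast]

/-- A position one layer down. -/
def lowAt (T : List (List ℕ)) (r k i : ℕ) : Bool := Nat.beq (lay2 (ipV r (codeAt T i)) + 1) (lay2 k)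

/-- The condition at one neighbour. `k` is the shifted inner product of the root with the vertex. -/
def classAt2 (T : List (List ℕ)) (A : List ℕ) (r k base i : ℕ) : Bool :=
  Nat.ble (lay2 (ipV r (codeAt T i))) (lay2 k + 1) &&
    bif lowAt T r k i then
      bif Nat.beq (auxAt A i / 8192) 0 then Nat.beq i base
      else Nat.blt (auxAt A i % 8192) 2025 && lowAt T r k (auxAt A i % 8192) &&
        Nat.blt (auxAt A (auxAt A i % 8192) / 8192) (auxAt A i / 8192) &&
        Nat.beq (ipV (codeAt T i) (codeAt T (auxAt A i % 8192))) 10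
    else bif Nat.beq (lay2 (ipV r (codeAt T i))) (lay2 k) then
      Nat.blt (auxAt A i) 2025 && lowAt T r k (auxAt A i) &&
        Nat.beq (ipV (codeAt T i) (codeAt T (auxAt A i))) 10
    else true

/-- All conditions for one level. -/
def classOK2 (T : List (List ℕ)) (A : List ℕ) (r k base : ℕ) : Bool :=
  Nat.blt base 2025 && lowAt T r k base && allBlock (classAt2 T A r k base) 2025

/-- A code of a vector of inner product -1 with the standard one and `k` with the base vertex. -/
def vtxOK (w c : ℕ) (k : ℤ) : Bool := Co1Mult.vecOK c (-1) && Nat.beq (ipV w c) (k + 8).toNat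

/-- An automorphism fixing the standard vector and the listed ones. -/
def genOK (M : List (List ℤ)) (cs : List ℕ) : Bool :=
  matOK M && fixOK M LeechOrbit.aList && cs.all fun c => fixOK M (dec 24 c)

/-- An automorphism fixing the standard vector, moving the first vector to the second and the second
to the third. -/
def moveOK (M : List (List ℤ)) (y w r : ℕ) : Bool :=
  genOK M [] && eqV (Co1Mult.step M (dec 24 y)) (dec 24 w) && eqV (Co1Mult.step M (dec 24 w)) (dec 24 r)

end Cfsg.Agent.Co2Mult
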