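import Cfsg.Agent.Lib.Co1Mult.Cover
import Mathlib.GroupTheory.Commutator.Basic
import Mathlib.GroupTheory.GroupAction.Quotient

/-!
The central kernel of an extension has trivial intersection with the commutator subgroup when the
group acts on a simply connected graph, layer by layer, and the kernel meets the lift of a perfect
vertex stabiliser trivially.
-/

set_option autoImplicit false

namespace Cfsg.Agent.Co2Mult

open MulAction (stabilizer)
open scoped commutatorElement
open Co1Mult (Fibred Lifting Layered exists_closed eq_one_of_mem_commutator)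

theorem engine {G : Type*} [Group G] {Ω : Type*} [MulAction G Ω] {adj : Ω → Ω → Prop}
    (hsymm : ∀ x y, adj x y → adj y x) (hinv : ∀ (g : G) x y, adj x y → adj (g • x) (g • y))
    {a b c : Ω} (hab : adj a b) (hbc : adj b c) (hca : adj c a)
    (htrans : ∀ x, ∃ g : G, g • a = x)
    (hS : ⁅stabilizer G a, stabilizer G a⁆ = stabilizer G a)
    (hT : ⁅stabilizer G a ⊓ stabilizer G b, stabilizer G a ⊓ stabilizer G b⁆ = stabilizer G a ⊓ stabilizer G b)
    (hedge : ∀ x y x' y', adj x y → adj x' y' → ∃ g : G, g • x = x' ∧ g • y = y')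
    (htri : ∀ x y w x' y' w', adj x y → adj y w → adj w x → adj x' y' → adj y' w' → adj w' x' →
      ∃ g : G, g • x = x' ∧ g • y = y' ∧ g • w = w')
    {d : Ω → ℕ} {r : Ω} {N : ℕ} (hd : Layered adj d r N)
    {E : Type*} [Group E] (σ : E →* G) (hs : Function.Surjective σ) (hcen : σ.ker ≤ Subgroup.center E)
    (hLz : ∀ z ∈ σ.ker, z ∈ ⁅(stabilizer G a).comap σ, (stabilizer G a).comap σ⁆ → z = 1)
    {z : E} (hz : z ∈ σ.ker) (hzc : z ∈ commutator E) : z = 1 := by
  set H := stabilizer G a with hH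
  set L0 : Subgroup E := H.comap σ with hL0
  set L : Subgroup E := ⁅L0, L0⁆ with hL
  have hL0map : L0.map σ = H := Subgroup.map_comap_eq_self_of_surjective hs H
  have hLmap : L.map σ = H := by rw [hL, Subgroup.map_commutator, hL0map, hS]
  have hLle : L ≤ L0 := Subgroup.commutator_le.2 fun a ha b hb => by
    rw [commutatorElement_def]
    exact mul_mem (mul_mem (mul_mem ha hb) (inv_mem ha)) (inv_mem hb)
  have hsplit : ∀ x ∈ L0, ∃ l ∈ L, l⁻¹ * x ∈ σ.ker := fun x hx => by
    obtain ⟨l, hl, he⟩ : σ x ∈ L.map σ := by rw [hLmap]; exact hx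
    exact ⟨l, hl, by rw [MonoidHom.mem_ker, map_mul, map_inv, he, inv_mul_cancel]⟩
  letI : MulAction E Ω := MulAction.compHom Ω σ
  have hval : ∀ (e : E) (x : Ω), e • x = σ e • x := fun _ _ => rfl
  let pr : E ⧸ L → Ω := Quotient.lift (fun e => σ e • a) fun u v huv => by
    have h1 : u⁻¹ * v ∈ L := QuotientGroup.leftRel_apply.1 huv
    show σ u • a = σ v • a
    rw [show σ v = σ u * σ (u⁻¹ * v) by rw [map_mul, map_inv, mul_inv_cancel_left], mul_smul,
      show σ (u⁻¹ * v) • a = a from hLle h1]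
  have hpr : ∀ e : E, pr (e : E ⧸ L) = σ e • a := fun _ => rfl
  have F : Fibred σ.ker pr := by
    refine ⟨hcen, fun g p => ?_, fun x => ?_, fun z hz x => ?_, fun z hz p h => ?_, fun p q h => ?_⟩
    · induction p using QuotientGroup.induction_on with
      | H p => rw [MulAction.Quotient.smul_coe, smul_eq_mul, hpr, hpr, map_mul, mul_smul, hval]
    · obtain ⟨g, hg⟩ := htrans x
      obtain ⟨e, rfl⟩ := hs g
      exact ⟨(e : E ⧸ L), hg⟩
    · rw [hval, MonoidHom.mem_ker.1 hz, one_smul]
    · induction p using QuotientGroup.induction_on with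
      | H p =>
        rw [MulAction.Quotient.smul_coe, smul_eq_mul, eq_comm, QuotientGroup.eq] at h
        refine hLz z hz ?_
        have : p⁻¹ * (z * p) = z := by
          rw [← Subgroup.mem_center_iff.1 (hcen hz) p, inv_mul_cancel_left]
        rwa [this] at h
    · induction p using QuotientGroup.induction_on with
      | H p =>
      induction q using QuotientGroup.induction_on with
      | H q =>
        rw [hpr, hpr] at h
        have h0 : p⁻¹ * q ∈ L0 := by
          show σ (p⁻¹ * q) • a = a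
          rw [map_mul, map_inv, mul_smul, ← h, inv_smul_smul]
        obtain ⟨l, hl, hk⟩ := hsplit _ h0
        refine ⟨l⁻¹ * (p⁻¹ * q), hk, ?_⟩
        have hq : l⁻¹ * (p⁻¹ * q) * p * l = q := by
          have hc := Subgroup.mem_center_iff.1 (hcen hk) (p * l)
          calc l⁻¹ * (p⁻¹ * q) * p * l = l⁻¹ * (p⁻¹ * q) * (p * l) := by group
            _ = p * l * (l⁻¹ * (p⁻¹ * q)) := hc.symm
            _ = q := by group
        rw [MulAction.Quotient.smul_coe, smul_eq_mul, QuotientGroup.eq]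
        have e1 : q⁻¹ * (l⁻¹ * (p⁻¹ * q) * p) = l⁻¹ := eq_inv_of_mul_eq_one_left (by
          rw [mul_assoc, hq, inv_mul_cancel])
        rw [e1]; exact inv_mem hl
  obtain ⟨e₀, he₀⟩ : ∃ e₀ : E, σ e₀ • a = b := by
    obtain ⟨g, hg⟩ := htrans b
    obtain ⟨e, rfl⟩ := hs g
    exact ⟨e, hg⟩
  let q₀ : E ⧸ L := (e₀ : E ⧸ L)
  let p₀ : E ⧸ L := ((1 : E) : E ⧸ L)
  have hp0 : pr p₀ = a := by rw [hpr, map_one, one_smul]
  have hq0 : pr q₀ = b := he₀
  -- the lifted edge is fixed by the part of `L` over the edge stabiliser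
  set T := stabilizer G a ⊓ stabilizer G b with hTdef
  set L1 : Subgroup E := L ⊓ T.comap σ with hL1
  have hL1map : L1.map σ = T := by
    refine le_antisymm (Subgroup.map_le_iff_le_comap.2 inf_le_right) fun g hg => ?_
    obtain ⟨l, hl, rfl⟩ : g ∈ L.map σ := by rw [hLmap]; exact hg.1
    exact ⟨l, ⟨hl, hg⟩, rfl⟩
  have hL1fix : ∀ h ∈ L1, h • q₀ = q₀ := by
    have hle : ⁅L1, L1⁆ ≤ stabilizer E q₀ := Subgroup.commutator_le.2 fun x hx y hy => by
      have hmv : ∀ h ∈ L1, ∃ u ∈ σ.ker, h • q₀ = u • q₀ := fun h hh =>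
        F.trans q₀ (h • q₀) (by
          rw [F.equivariant, hq0, hval]
          exact (show σ h • b = b from hh.2.2).symm)
      obtain ⟨u, hu, hxu⟩ := hmv x hx
      obtain ⟨v, hv, hyv⟩ := hmv y hy
      have e1 : (x * y) • q₀ = (y * x) • q₀ := by
        rw [mul_smul, mul_smul, hyv, hxu, F.swap hv x, hxu, F.swap hu y, hyv, ← mul_smul, ← mul_smul,
          Subgroup.mem_center_iff.1 (hcen hu) v]
      have e2 : ⁅x, y⁆ • (y * x) • q₀ = (y * x) • q₀ := by
        rw [← mul_smul, show ⁅x, y⁆ * (y * x) = x * y by rw [commutatorElement_def]; group, e1]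
      rw [mul_smul y x, hxu, F.swap hu y, hyv, ← mul_smul u v] at e2
      rw [MulAction.mem_stabilizer_iff]
      refine smul_left_cancel (u * v) ?_
      rw [← F.swap (mul_mem hu hv), e2]
    intro h hh
    obtain ⟨k, hk, he⟩ : σ h ∈ ⁅L1, L1⁆.map σ := by
      rw [Subgroup.map_commutator, hL1map, hT]
      exact hh.2
    have hkL : k ∈ L := (Subgroup.commutator_le.2 fun x hx y hy => by
      rw [commutatorElement_def]
      exact mul_mem (mul_mem (mul_mem hx.1 hy.1) (inv_mem hx.1)) (inv_mem hy.1)) hk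
    have : h = k := (inv_mul_eq_one.1 (hLz (k⁻¹ * h)
      (by rw [MonoidHom.mem_ker, map_mul, map_inv, he, inv_mul_cancel]) (mul_mem (inv_mem hkL) hh.1))).symm
    rw [this]
    exact hle hk
  have hR : Lifting (E := E) pr adj fun p q => ∃ g : E, g • p₀ = p ∧ g • q₀ = q := by
    refine ⟨?_, fun p y h => ?_, ?_, ?_⟩
    · rintro _ _ ⟨g, rfl, rfl⟩
      rw [F.equivariant, F.equivariant, hval, hval, hp0, hq0]
      exact hinv _ _ _ hab
    · obtain ⟨g, g1, g2⟩ := hedge _ _ _ _ hab h
      obtain ⟨e, rfl⟩ := hs g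
      obtain ⟨e', e1, e2⟩ := F.exists_move (a₀ := p₀) (a := p) (g := e) (by rw [hp0, hval]; exact g1)
      exact ⟨e' • q₀, by rw [F.equivariant, hq0, e2, hval]; exact g2, e', e1, rfl⟩
    · rintro p q q' ⟨g, g1, rfl⟩ ⟨g', g1', rfl⟩ he
      have hh : g⁻¹ * g' ∈ L1 := by
        refine ⟨?_, ?_⟩
        · have : (g⁻¹ * g') • p₀ = p₀ := by rw [mul_smul, g1', ← g1, inv_smul_smul]
          rw [MulAction.Quotient.smul_coe, smul_eq_mul, mul_one, QuotientGroup.eq, mul_one] at this
          exact (Subgroup.inv_mem_iff L).1 this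
        · have h1 : σ (g⁻¹ * g') • a = a := by
            have := congrArg pr (show (g⁻¹ * g') • p₀ = p₀ by rw [mul_smul, g1', ← g1, inv_smul_smul])
            rwa [F.equivariant, hp0, hval] at this
          have h2 : σ (g⁻¹ * g') • b = b := by
            have := congrArg (fun x : Ω => g⁻¹ • x) he
            simp only [F.equivariant, hq0, inv_smul_smul] at this
            rw [← hval, mul_smul, ← this]
          exact ⟨h1, h2⟩
      calc g • q₀ = g • (g⁻¹ * g') • q₀ := by rw [hL1fix _ hh]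
        _ = g' • q₀ := by rw [mul_smul, smul_inv_smul]
    · rintro e p q ⟨g, rfl, rfl⟩
      exact ⟨e * g, mul_smul _ _ _, mul_smul _ _ _⟩
  obtain ⟨R', hR', hsym', htri'⟩ := exists_closed F hR hsymm
    (fun x y x' y' h h' => by
      obtain ⟨g, g1, g2⟩ := hedge _ _ _ _ h h'
      obtain ⟨e, rfl⟩ := hs g
      exact ⟨e, g1, g2⟩)
    (fun x y w x' y' w' h1 h2 h3 k1 k2 k3 => by
      obtain ⟨g, g1, g2, g3⟩ := htri _ _ _ _ _ _ h1 h2 h3 k1 k2 k3
      obtain ⟨e, rfl⟩ := hs g
      exact ⟨e, g1, g2, g3⟩)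
    hab hbc hca
  exact eq_one_of_mem_commutator F hR' hsymm hsym' htri' hd
    (fun g x y h => hinv (σ g) x y h) hz hzc

end Cfsg.Agent.Co2Mult
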