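import Cfsg.Agent.Lib.Co1Mult.Graph
import Cfsg.Agent.Lib.LeechOrbit.Partition
import Cfsg.Agent.Lib.SporPerm.Realise
import Cfsg.Agent.Lib.Schur.Tails
import Cfsg.Agent.Lib.Schur.SeqCard

/-! Words in elements of a vector stabiliser given by matrices, compared on the axes. -/

set_option autoImplicit false
set_option maxRecDepth 20000

namespace Cfsg.Agent.Co2Mult

open Cfsg Cfsg.Agent.Golay Cfsg.Agent.Leech Cfsg.Agent.LeechMod Cfsg.Agent.SporPerm
open Cfsg.Agent.PermCert (allBelow allBelow_spec)
open Cfsg.Agent.PermSchur (SchurData val val_cons val_append)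

/-- The stabiliser of the standard minimal vector. -/
noncomputable abbrev stabA : Subgroup Co0 := MulAction.stabilizer Co0 stdA

/-- One step. -/
def stepM (M : List (List ℤ)) (l : List ℤ) : List ℤ := M.map fun r => rowDot r l / 8

/-- The coordinates of an axis. -/
def axL (i : ℕ) : List ℤ := (List.range 24).map fun j => if Nat.beq i j then 8 else 0

/-- The matrices are automorphisms fixing the standard vector. -/
def goodMat (M : List (List ℤ)) : Bool := matOK M && fixOK M LeechOrbit.aList

/-- The element of a matrix. -/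
noncomputable def elemOf (M : List (List ℤ)) : stabA :=
  if h : goodMat M = true then
    ⟨Classical.choose (exists_of_matOK (Bool.and_eq_true _ _ |>.mp h).1),
      smul_eq_of_fixOK (Bool.and_eq_true _ _ |>.mp h).1 (Bool.and_eq_true _ _ |>.mp h).2
        (Classical.choose_spec (exists_of_matOK (Bool.and_eq_true _ _ |>.mp h).1)).1 LeechOrbit.toVec_aList.symm⟩
  else 1

/-- A letter. -/
noncomputable def letter (Ms : List (List (List ℤ))) (q : ℕ) : stabA := elemOf (Ms.getD q [])

/-- The action of a word. -/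
def appW (Ms : List (List (List ℤ))) (u : List ℕ) (l : List ℤ) : List ℤ :=
  u.foldr (fun q l => stepM (Ms.getD q []) l) l

theorem shape_of_good {M : List (List ℤ)} (h : goodMat M = true) : shapeOK M = true := by
  simp only [goodMat, matOK, Bool.and_eq_true] at h
  exact h.1.1.1.1

theorem elem_step {M : List (List ℤ)} (h : goodMat M = true) {x : leechLattice} {l : List ℤ}
    (hl : l.length = 24) (hx : toVec l = (x : GolayPt → ℤ)) :
    toVec (stepM M l) = (((elemOf M : Co0) • x : leechLattice) : GolayPt → ℤ) ∧ (stepM M l).length = 24 := by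
  have hs := shape_of_good h
  refine ⟨?_, ?_⟩
  · rw [elemOf, dif_pos h]
    show _ = ((Classical.choose _ • x : leechLattice) : GolayPt → ℤ)
    rw [(Classical.choose_spec (exists_of_matOK (Bool.and_eq_true _ _ |>.mp h).1)).1, ← hx,
      mapMat_toVec hs hl]
    rfl
  · simp only [shapeOK, Bool.and_eq_true, Nat.beq_eq] at hs
    rw [stepM, List.length_map, hs.1]

theorem word_step {Ms : List (List (List ℤ))} (hM : Ms.all goodMat = true) : ∀ {u : List ℕ},
    (∀ q ∈ u, q < Ms.length) → ∀ {x : leechLattice} {l : List ℤ}, l.length = 24 →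
    toVec l = (x : GolayPt → ℤ) →
    toVec (appW Ms u l) = (((val (letter Ms) u : stabA) : Co0) • x : leechLattice).1 ∧
      (appW Ms u l).length = 24
  | [], _, x, l, hl, hx => by simp [appW, val, hl, hx]
  | q :: u, hu, x, l, hl, hx => by
    obtain ⟨h1, h2⟩ := word_step hM (fun a ha => hu a (List.mem_cons_of_mem _ ha)) hl hx
    have hq := hu q List.mem_cons_self
    have hg : goodMat (Ms.getD q []) = true := by
      rw [List.getD_eq_getElem _ _ hq]
      exact List.all_eq_true.1 hM _ (List.getElem_mem hq)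
    rw [val_cons, Subgroup.coe_mul, mul_smul]
    exact elem_step hg h2 h1

theorem axL_length (i : ℕ) : (axL i).length = 24 := by simp [axL]

theorem toVec_axL (p : GolayPt) : toVec (axL (idx p)) = (axis p : GolayPt → ℤ) := by
  funext q
  rw [coe_axis, toVec, axL, getD_map_range _ (idx_lt q), Pi.single_apply]
  rcases eq_or_ne q p with rfl | hne
  · simp
  · have : ¬ Nat.beq (idx p) (idx q) = true := by
      rw [Nat.beq_eq]; exact fun e => hne (idx_injective e).symm
    simp [this, hne]

/-- Two words agree on all axes. -/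
def wordEq (Ms : List (List (List ℤ))) (u v : List ℕ) : Bool :=
  allBelow (fun i => eqV (appW Ms u (axL i)) (appW Ms v (axL i))) 24

theorem wordEq_val {Ms : List (List (List ℤ))} (hM : Ms.all goodMat = true) {u v : List ℕ}
    (hu : ∀ q ∈ u, q < Ms.length) (hv : ∀ q ∈ v, q < Ms.length) (h : wordEq Ms u v = true) :
    val (letter Ms) u = val (letter Ms) v := by
  refine Subtype.ext (co0_ext fun p => Subtype.ext ?_)
  rw [← (word_step hM hu (axL_length _) (toVec_axL p)).1, ← (word_step hM hv (axL_length _) (toVec_axL p)).1,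
    eqV_iff.1 (allBelow_spec _ _ h _ (idx_lt p))]

theorem val_wordEq {Ms : List (List (List ℤ))} (hM : Ms.all goodMat = true) {u v : List ℕ}
    (hu : ∀ q ∈ u, q < Ms.length) (hv : ∀ q ∈ v, q < Ms.length)
    (h : val (letter Ms) u = val (letter Ms) v) : wordEq Ms u v = true := by
  have key : ∀ n ≤ 24, allBelow (fun i => eqV (appW Ms u (axL i)) (appW Ms v (axL i))) n = true := by
    intro n hn
    induction n with
    | zero => rfl
    | succ n ih =>
      show (allBelow _ n && eqV (appW Ms u (axL n)) (appW Ms v (axL n))) = true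
      rw [ih (by omega), Bool.true_and, eqV_iff]
      obtain ⟨p, hp⟩ : ∃ p : GolayPt, idx p = n := ⟨pt ⟨n, by omega⟩, idx_pt _⟩
      subst hp
      obtain ⟨a1, a2⟩ := word_step hM hu (axL_length _) (toVec_axL p)
      obtain ⟨b1, b2⟩ := word_step hM hv (axL_length _) (toVec_axL p)
      exact toVec_inj a2 b2 (by rw [a1, b1, h])
  exact key 24 le_rfl

/-- The power and commutator rules of one generator hold. -/
def powOK (d : SchurData) (Ms : List (List (List ℤ))) (i : ℕ) : Bool :=
  (d.pow.getD i []).all (fun q => Nat.blt q Ms.length) &&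
    wordEq Ms (List.replicate d.p i) (d.pow.getD i []) &&
    allBelow (fun j => ((d.comm.getD i []).getD j []).all (fun q => Nat.blt q Ms.length) &&
      wordEq Ms [i, j] ((d.comm.getD i []).getD j [])) i

/-- The rules of one fusion hold. -/
def fusOK (d : SchurData) (Ms Fs : List (List (List ℤ))) (t : ℕ) : Bool :=
  allBelow (fun i =>
      ((d.fus.getD t ⟨(0, 0), [], []⟩).src.getD i []).all (fun q => Nat.blt q Ms.length) &&
      ((d.fus.getD t ⟨(0, 0), [], []⟩).img.getD i []).all (fun q => Nat.blt q Ms.length) &&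
      allBelow (fun a => eqV (stepM (Fs.getD t []) (appW Ms ((d.fus.getD t ⟨(0, 0), [], []⟩).src.getD i []) (axL a)))
        (appW Ms ((d.fus.getD t ⟨(0, 0), [], []⟩).img.getD i []) (stepM (Fs.getD t []) (axL a)))) 24)
    (d.fus.getD t ⟨(0, 0), [], []⟩).src.length

/-- The rules hold. -/
def rulesOK (d : SchurData) (Ms Fs : List (List (List ℤ))) : Bool :=
  Ms.all goodMat && Fs.all goodMat && Nat.beq d.a.length Ms.length && Nat.beq d.fus.length Fs.length &&
  allBelow (powOK d Ms) d.a.length && allBelow (fusOK d Ms Fs) d.fus.length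

theorem allBelow_intro {f : ℕ → Bool} : ∀ {n : ℕ}, (∀ i < n, f i = true) → allBelow f n = true
  | 0, _ => rfl
  | n + 1, h => by
    show (allBelow f n && f n) = true
    rw [allBelow_intro fun i hi => h i (by omega), h n (by omega)]; rfl

variable {d : SchurData} {Ms Fs : List (List (List ℤ))}

theorem facts (h : rulesOK d Ms Fs = true) : Tails.Facts d (letter Ms) (letter Fs) := by
  simp only [rulesOK, Bool.and_eq_true, Nat.beq_eq] at h
  obtain ⟨⟨⟨⟨⟨hM, hF⟩, hl⟩, hlF⟩, h1⟩, h2⟩ := h
  refine ⟨fun i hi => ?_, fun i hi j hj => ?_, fun t ht i hi => ?_⟩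
  · have h' := allBelow_spec _ _ h1 i hi
    simp only [powOK, Bool.and_eq_true, List.all_eq_true, Nat.blt_eq] at h'
    rw [← SeqCard.val_replicate]
    exact wordEq_val hM (fun q hq => by rw [List.eq_of_mem_replicate hq, ← hl]; exact hi) h'.1.1 h'.1.2
  · have h' := allBelow_spec _ _ h1 i hi
    simp only [powOK, Bool.and_eq_true] at h'
    have h'' := allBelow_spec _ _ h'.2 j hj
    simp only [Bool.and_eq_true, List.all_eq_true, Nat.blt_eq] at h''
    rw [show letter Ms i * letter Ms j = val (letter Ms) [i, j] by simp [val]]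
    refine wordEq_val hM (fun q hq => ?_) h''.1 h''.2
    simp only [List.mem_cons, List.not_mem_nil, or_false] at hq
    omega
  · have ht' := allBelow_spec _ _ h2 t ht
    simp only [fusOK] at ht'
    have h' := allBelow_spec _ _ ht' i hi
    simp only [Bool.and_eq_true, List.all_eq_true, Nat.blt_eq] at h'
    obtain ⟨⟨hs, hi'⟩, hax⟩ := h'
    have hg : goodMat (Fs.getD t []) = true := by
      rw [List.getD_eq_getElem _ _ (hlF ▸ ht)]
      exact List.all_eq_true.1 hF _ (List.getElem_mem _)
    rw [mul_inv_eq_iff_eq_mul]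
    refine Subtype.ext (co0_ext fun p => Subtype.ext ?_)
    rw [Subgroup.coe_mul, Subgroup.coe_mul, mul_smul, mul_smul]
    obtain ⟨a1, a2⟩ := word_step hM hs (axL_length _) (toVec_axL p)
    obtain ⟨b1, b2⟩ := elem_step hg (axL_length _) (toVec_axL p)
    have e := eqV_iff.1 (allBelow_spec _ _ hax _ (idx_lt p))
    show (((elemOf (Fs.getD t []) : Co0) • _ : leechLattice) : GolayPt → ℤ) =
      ((_ • ((elemOf (Fs.getD t []) : Co0) • axis p) : leechLattice) : GolayPt → ℤ)
    rw [← (elem_step hg a2 a1).1, ← (word_step hM hi' b2 b1).1, e]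

/-- The listed generators of the derived group are new. -/
def gsNeOK (d : SchurData) (Ms : List (List (List ℤ))) : Bool :=
  allBelow (fun i => (d.gs.getD i ([], [])).1.all (fun q => Nat.blt q Ms.length) &&
    (Tails.formsOf d i).all fun f => f.all (fun q => Nat.blt q Ms.length) &&
      !wordEq Ms (d.gs.getD i ([], [])).1 f) d.gs.length

theorem gs_ne (hM : Ms.all goodMat = true) (h : gsNeOK d Ms = true) :
    ∀ i < d.gs.length, ∀ f ∈ Tails.formsOf d i,
      val (letter Ms) (d.gs.getD i ([], [])).1 ≠ val (letter Ms) f := by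
  intro i hi f hf e
  have h' := allBelow_spec _ _ h i hi
  simp only [Bool.and_eq_true, List.all_eq_true, Nat.blt_eq, Bool.not_eq_true'] at h'
  obtain ⟨hg, hff⟩ := h'
  obtain ⟨hfl, hne⟩ := hff f hf
  rw [val_wordEq hM hg hfl e] at hne
  simp at hne

/-- The sequence is polycyclic and each term is new. -/
def seqNewOK (d : SchurData) (Ms : List (List (List ℤ))) : Bool :=
  allBelow (fun i => (d.pow.getD i []).all (fun q => Nat.blt q i) &&
    allBelow (fun j => ((d.comm.getD i []).getD j []) == ((d.comm.getD i []).getD j []).dropLast ++ [i] &&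
      ((d.comm.getD i []).getD j []).dropLast.all (fun q => Nat.blt q i)) i &&
    (SeqCard.lforms d.p i).all (fun f => f.all (fun q => Nat.blt q Ms.length) && !wordEq Ms [i] f)) d.a.length

theorem card_closure (hp : d.p.Prime) (hr : rulesOK d Ms Fs = true) (hs : seqNewOK d Ms = true) :
    Nat.card (Subgroup.closure {x | ∃ q < d.a.length, x = letter Ms q}) = d.p ^ d.a.length := by
  have hF := facts hr
  simp only [rulesOK, Bool.and_eq_true, Nat.beq_eq] at hr
  obtain ⟨⟨⟨⟨⟨hM, -⟩, hl⟩, -⟩, -⟩, -⟩ := hr
  have H : ∀ i < d.a.length, (∀ q ∈ d.pow.getD i [], q < i) ∧ (∀ j < i, ∃ u : List ℕ, (∀ q ∈ u, q < i) ∧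
      (d.comm.getD i []).getD j [] = u ++ [i]) ∧ ∀ f ∈ SeqCard.lforms d.p i,
        (∀ q ∈ f, q < Ms.length) ∧ wordEq Ms [i] f = false := fun i hi => by
    have h := allBelow_spec _ _ hs i hi
    simp only [Bool.and_eq_true, List.all_eq_true, Nat.blt_eq, Bool.not_eq_true'] at h
    refine ⟨h.1.1, fun j hj => ?_, h.2⟩
    have h' := allBelow_spec _ _ h.1.2 j hj
    simp only [Bool.and_eq_true, List.all_eq_true, Nat.blt_eq, beq_iff_eq] at h'
    exact ⟨_, h'.2, h'.1⟩
  haveI : Finite Co0 := Nat.finite_of_card_ne_zero (by rw [card_Co0]; norm_num)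
  refine (SeqCard.closure_seq hp (letter Ms) (fun i hi => ⟨_, (H i hi).1, hF.pow i hi⟩)
    (fun i hi j hj => ?_) (fun i hi f hf e => ?_)).1
  · obtain ⟨u, hu, e⟩ := (H i hi).2.1 j hj
    exact ⟨u, hu, e ▸ hF.comm i hi j hj⟩
  · obtain ⟨hfl, hne⟩ := (H i hi).2.2 f hf
    rw [val_wordEq hM (u := [i]) (fun q hq => by rw [List.mem_singleton.1 hq, ← hl]; exact hi) hfl
      (by simpa [val] using e)] at hne
    simp at hne

end Cfsg.Agent.Co2Mult
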