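import Cfsg.Agent.Lib.Co2Mult.CoverChecks
import Cfsg.Agent.Lib.Co2Mult.ThreeDefs
import Cfsg.Agent.Lib.LeechOrbit.Levels
import Mathlib.Combinatorics.Enumerative.DoubleCounting

/-!
The stabiliser of a pair of minimal vectors with inner product -1 is transitive on the levels of the
inner product with the second vector, among the vectors of inner product -1 with the first.
-/

set_option autoImplicit false
set_option maxRecDepth 20000

namespace Cfsg.Agent.Co2Mult

open Cfsg Cfsg.Agent.Golay Cfsg.Agent.Leech Cfsg.Agent.LeechMod Cfsg.Agent.SporPerm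
open Cfsg.Agent.LeechOrbit (dec eCode length_dec dec_injective w1 w1_facts mclH mclSet2025 ncard_2025
  transitive_2025 finite_shell exists_fixing orbit_card fill_levels ip_w1 treeOK smallOK colsOK toVec_aList)
open Cfsg.Agent.Co1Mult (ipV ipV_eq vecOK_spec countIp codeAt allBlock_spec eq_of_ip_four norm_neg)
open MulAction (stabilizer orbit)

attribute [local irreducible] vTree mCols eCols sCols eTree0 eTree1 eTree2 sTree1 sTree2 mMat0 mMat1
  eMat0 eMat1 sMat0 sMat1 yMove zMove wCode2 uCode x0Code x1Code y2Code yCode zCode yRoot zRoot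

/-- The base neighbour. -/
def u0 : leechLattice := w1 - dVec

/-- The stabiliser of the two vectors. -/
noncomputable abbrev mclP : Subgroup Co0 := stabilizer Co0 stdA ⊓ stabilizer Co0 w1

/-- The vectors of inner product -1. -/
def omega : Set leechLattice := withIp stdA (-1)

/-- The neighbours of the base vertex. -/
def nbrW : Set leechLattice := {x | ip x x = 4 ∧ ip stdA x = -1 ∧ ip w1 x = 2}

theorem ip_sub_right (x y z : leechLattice) : ip x (y - z) = ip x y - ip x z := by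
  rw [ip_comm, LatticeMod2.sub_left rootless_ip, ip_comm, ip_comm z]

theorem toVec_wCode2 : toVec (dec 24 wCode2) = (w1 : GolayPt → ℤ) := by
  rw [eqV_iff.1 w_code]
  funext i
  rw [w1, AddSubgroup.coe_sub, Pi.sub_apply, vec6_apply, stdA_apply]
  revert i; decide

theorem toVec_uCode : toVec (dec 24 uCode) = (u0 : GolayPt → ℤ) := by
  rw [eqV_iff.1 u_code]
  funext i
  rw [u0, w1, AddSubgroup.coe_sub, AddSubgroup.coe_sub, Pi.sub_apply, Pi.sub_apply, vec6_apply, stdA_apply,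
    dVec_apply]
  revert i; decide

theorem finite_omega : omega.Finite := withIp_finite _ _

theorem w1_mem : w1 ∈ omega := w1_facts

theorem ip_w1_self : ip w1 w1 = 4 := w1_facts.1

theorem nbrW_subset : nbrW ⊆ omega := fun _ h => ⟨h.1, h.2.1⟩

theorem nbrW_finite : nbrW.Finite := finite_omega.subset nbrW_subset

theorem nbrW_eq : nbrW = (fun x => w1 - x) '' mclSet2025 := by
  have key : ∀ x : leechLattice, ip x x = 4 → ∀ p q : ℤ, ip stdA x = p → ip w1 x = q →
      ip (w1 - x) (w1 - x) = 8 - 2 * q ∧ ip stdA (w1 - x) = -1 - p ∧ ip w1 (w1 - x) = 4 - q := by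
    intro x hx p q hp hq
    refine ⟨?_, ?_, ?_⟩
    · rw [LatticeMod2.norm_sub rootless_ip, ip_w1_self, hx, hq]; ring
    · rw [ip_sub_right, w1_facts.2, hp]
    · rw [ip_sub_right, ip_w1_self, hq]
  ext x
  constructor
  · rintro ⟨hx, hp, hq⟩
    obtain ⟨a, b, c⟩ := key x hx _ _ hp hq
    exact ⟨w1 - x, ⟨a.trans (by norm_num), b.trans (by norm_num), c.trans (by norm_num)⟩, sub_sub_cancel w1 x⟩
  · rintro ⟨y, ⟨hy, hp, hq⟩, rfl⟩
    obtain ⟨a, b, c⟩ := key y hy _ _ hp hq
    exact ⟨a.trans (by norm_num), b.trans (by norm_num), c.trans (by norm_num)⟩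

theorem ncard_nbrW : nbrW.ncard = 2025 := by
  rw [nbrW_eq, Set.ncard_image_of_injective _ sub_right_injective, ncard_2025]

theorem u0_mem : u0 ∈ nbrW := by
  rw [nbrW_eq]; exact ⟨dVec, LeechOrbit.dVec_mem, rfl⟩

theorem transitive_nbrW {x : leechLattice} (hx : x ∈ nbrW) : ∃ g ∈ mclP, g • u0 = x := by
  rw [nbrW_eq] at hx
  obtain ⟨y, hy, rfl⟩ := hx
  obtain ⟨g, hg, hgy⟩ := transitive_2025 hy
  exact ⟨g, hg, by rw [u0, co0_sub, show g • w1 = w1 from hg.2, hgy]⟩

theorem nbrW_smul {g : Co0} (hg : g ∈ mclP) {x : leechLattice} (hx : x ∈ nbrW) : g • x ∈ nbrW := by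
  obtain ⟨a, b, c⟩ := hx
  exact ⟨(co0_ip g x x).trans a, by rw [← show g • stdA = stdA from hg.1, co0_ip]; exact b,
    by rw [← show g • w1 = w1 from hg.2, co0_ip]; exact c⟩

theorem orbit_u0 : orbit mclP u0 = nbrW := by
  ext x
  constructor
  · rintro ⟨g, rfl⟩
    exact nbrW_smul g.2 u0_mem
  · intro hx
    obtain ⟨g, hg, he⟩ := transitive_nbrW hx
    exact ⟨⟨g, hg⟩, he⟩

/-! ### Codes -/

theorem vtx_spec {c : ℕ} {k : ℤ} (h : vtxOK wCode2 c k = true) :
    ∃ z : leechLattice, toVec (dec 24 c) = (z : GolayPt → ℤ) ∧ z ∈ omega ∧ ip w1 z = k := by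
  simp only [vtxOK, Bool.and_eq_true, Nat.beq_eq] at h
  obtain ⟨z, hz, h4, hA⟩ := vecOK_spec h.1
  refine ⟨z, hz, ⟨h4, hA⟩, ?_⟩
  have hm := ip_values ip_w1_self h4
  simp only [Finset.mem_insert, Finset.mem_singleton] at hm
  have e := ipV_eq toVec_wCode2 hz (by omega)
  rw [h.2] at e
  omega

theorem ip_of_ipV {c d : ℕ} {x y : leechLattice} (hx : toVec (dec 24 c) = (x : GolayPt → ℤ))
    (hy : toVec (dec 24 d) = (y : GolayPt → ℤ)) (h4 : ip x x = 4) (h4' : ip y y = 4) {k : ℕ}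
    (h : ipV c d = k) : ip x y = (k : ℤ) - 8 := by
  have hm := ip_values h4 h4'
  simp only [Finset.mem_insert, Finset.mem_singleton] at hm
  have e := ipV_eq hx hy (by omega)
  rw [h] at e
  omega

/-- A checked generator. -/
theorem gen_spec {M : List (List ℤ)} {cs : List ℕ} (h : genOK M cs = true) : ∃ g : Co0,
    g • stdA = stdA ∧ (∀ c ∈ cs, ∀ v : leechLattice, toVec (dec 24 c) = (v : GolayPt → ℤ) → g • v = v) ∧
      ∀ v : leechLattice, ((g • v : leechLattice) : GolayPt → ℤ) = mapMat (toMat M) v := by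
  simp only [genOK, Bool.and_eq_true, List.all_eq_true] at h
  obtain ⟨g, hg, hf⟩ := exists_fixing h.1.1
  exact ⟨g, hf _ _ h.1.2 toVec_aList, fun c hc v hv => hf _ _ (h.2 c hc) hv, hg⟩

theorem m_gens : ∀ M ∈ [mMat0, mMat1], ∃ g ∈ mclP,
    ∀ v : leechLattice, ((g • v : leechLattice) : GolayPt → ℤ) = mapMat (toMat M) v := by
  intro M hM
  have key : genOK M [wCode2] = true := by
    simp only [List.mem_cons, List.not_mem_nil, or_false] at hM
    rcases hM with rfl | rfl
    exacts [m_ok0, m_ok1]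
  obtain ⟨g, ga, gc, hg⟩ := gen_spec key
  exact ⟨g, ⟨ga, gc _ List.mem_cons_self _ toVec_wCode2⟩, hg⟩

theorem e_gens : ∀ M ∈ [eMat0, eMat1], ∃ g ∈ mclP ⊓ stabilizer Co0 u0,
    ∀ v : leechLattice, ((g • v : leechLattice) : GolayPt → ℤ) = mapMat (toMat M) v := by
  intro M hM
  have key : genOK M [wCode2, uCode] = true := by
    simp only [List.mem_cons, List.not_mem_nil, or_false] at hM
    rcases hM with rfl | rfl
    exacts [e_ok0, e_ok1]
  obtain ⟨g, ga, gc, hg⟩ := gen_spec key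
  exact ⟨g, ⟨⟨ga, gc _ List.mem_cons_self _ toVec_wCode2⟩,
    gc _ (List.mem_cons_of_mem _ List.mem_cons_self) _ toVec_uCode⟩, hg⟩

theorem s_gens {x : leechLattice} (hx : toVec (dec 24 x0Code) = (x : GolayPt → ℤ)) :
    ∀ M ∈ [sMat0, sMat1], ∃ g ∈ mclP ⊓ stabilizer Co0 x,
      ∀ v : leechLattice, ((g • v : leechLattice) : GolayPt → ℤ) = mapMat (toMat M) v := by
  intro M hM
  have key : genOK M [wCode2, x0Code] = true := by
    simp only [List.mem_cons, List.not_mem_nil, or_false] at hM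
    rcases hM with rfl | rfl
    exacts [s_ok0, s_ok1]
  obtain ⟨g, ga, gc, hg⟩ := gen_spec key
  exact ⟨g, ⟨⟨ga, gc _ List.mem_cons_self _ toVec_wCode2⟩,
    gc _ (List.mem_cons_of_mem _ List.mem_cons_self) _ hx⟩, hg⟩

/-- An orbit has at least the size of its table. -/
theorem low {Ms : List (List (List ℤ))} {Cs : List (List ℕ × ℕ)} {root n : ℕ} {T : List (List ℕ)}
    (hT : treeOK Cs root T = true) (hn : T.flatten.length = n)
    (hC : List.Forall₂ (fun M P => colsOK M P = true) Ms Cs) (hs : Ms.all smallOK = true) {G : Subgroup Co0}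
    (hG : ∀ M ∈ Ms, ∃ g ∈ G, ∀ v : leechLattice, ((g • v : leechLattice) : GolayPt → ℤ) = mapMat (toMat M) v)
    {y : leechLattice} (hy : toVec (dec 24 root) = (y : GolayPt → ℤ)) (h4 : ip y y = 4) :
    n ≤ (orbit G y).ncard := by
  refine hn ▸ orbit_card hT hC hs hG hy (S := {x | ip x x = 4}) (finite_shell _ fun _ h => h) ?_
  rintro x ⟨g, rfl⟩
  exact (co0_ip g.1 _ _).trans h4

/-! ### The list of neighbours -/

theorem flatten_length : vTree.flatten.length = 2025 := by
  have h := v_len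
  simp only [Bool.and_eq_true, Nat.beq_eq] at h
  exact h.1.1

theorem entry_spec {e : ℕ} (he : e ∈ vTree.flatten) :
    ∃ x ∈ nbrW, toVec (dec 24 (eCode e)) = (x : GolayPt → ℤ) := by
  have hs := gens_small
  simp only [Bool.and_eq_true] at hs
  obtain ⟨x, ⟨g, rfl⟩, hx⟩ := LeechOrbit.mem_orbit v_tree m_cols hs.1.1 m_gens toVec_uCode he
  exact ⟨_, nbrW_smul g.2 u0_mem, hx⟩

theorem exists_entry {x : leechLattice} (hx : x ∈ nbrW) :
    ∃ e ∈ vTree.flatten, toVec (dec 24 (eCode e)) = (x : GolayPt → ℤ) := by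
  choose f hf hfv using fun k : Fin vTree.flatten.length => entry_spec (List.getElem_mem k.2)
  have hinc : (vTree.flatten.map eCode).Pairwise (· < ·) := by
    have h := v_tree
    simp only [LeechOrbit.treeOK, Bool.and_eq_true] at h
    exact LeechOrbit.incr_pairwise _ h.2
  have hnd : (vTree.flatten.map eCode).Nodup := hinc.imp fun h => ne_of_lt h
  have hlt : ∀ k, eCode k < 16 ^ 24 := fun k => (Nat.mod_lt _ (by norm_num)).trans_le (by norm_num)
  have hinj : Function.Injective f := fun i j hij => by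
    have hk := dec_injective _ _ _ (hlt _) (hlt _)
      (toVec_inj (length_dec _ _) (length_dec _ _) ((hfv i).trans ((congrArg Subtype.val hij).trans (hfv j).symm)))
    refine Fin.ext ((hnd.getElem_inj_iff (hi := by rw [List.length_map]; exact i.2)
      (hj := by rw [List.length_map]; exact j.2)).1 ?_)
    rw [List.getElem_map, List.getElem_map]; exact hk
  have heq : Set.range f = nbrW := Set.eq_of_subset_of_ncard_le (Set.range_subset_iff.2 hf)
    (by rw [ncard_nbrW, Set.ncard_range_of_injective hinj, Nat.card_fin, flatten_length]) nbrW_finite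
  obtain ⟨k, hk⟩ := heq.ge hx
  exact ⟨_, List.getElem_mem k.2, by rw [hfv k, ← hk]⟩

theorem exists_node {i : ℕ} (hi : i < 2025) :
    ∃ x ∈ nbrW, toVec (dec 24 (codeAt vTree i)) = (x : GolayPt → ℤ) := by
  have h := v_len
  simp only [Bool.and_eq_true, Nat.beq_eq] at h
  have hj := allBlock_spec h.1.2 hi
  rw [Nat.blt_eq] at hj
  have hb : i / 64 < vTree.length := by
    by_contra hc
    rw [List.getD_eq_default _ _ (Nat.le_of_not_lt hc)] at hj
    simp at hj
  refine entry_spec (List.mem_flatten.2 ⟨_, List.getElem_mem hb, ?_⟩)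
  rw [List.getD_eq_getElem _ _ hb] at hj ⊢
  rw [List.getD_eq_getElem _ _ hj]
  exact List.getElem_mem hj

theorem exists_index {x : leechLattice} (hx : x ∈ nbrW) :
    ∃ i < 2025, toVec (dec 24 (codeAt vTree i)) = (x : GolayPt → ℤ) := by
  obtain ⟨e, he, hv⟩ := exists_entry hx
  obtain ⟨B, hB, heB⟩ := List.mem_flatten.1 he
  obtain ⟨b, hb, rfl⟩ := List.mem_iff_getElem.1 hB
  obtain ⟨j, hj, rfl⟩ := List.mem_iff_getElem.1 heB
  have h := v_len
  simp only [Bool.and_eq_true, Nat.beq_eq] at h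
  have hk := PermCert.allBelow_spec _ _ h.2 b hb
  simp only [Bool.and_eq_true, Nat.ble_eq, List.getD_eq_getElem _ _ hb] at hk
  have e1 : (64 * b + j) / 64 = b := by omega
  have e2 : (64 * b + j) % 64 = j := by omega
  refine ⟨64 * b + j, by omega, ?_⟩
  rw [Co1Mult.codeAt, e1, e2, List.getD_eq_getElem _ _ hb, List.getD_eq_getElem _ _ hj, hv]

theorem ncard_count {r : leechLattice} (hr4 : ip r r = 4) {c : ℕ}
    (hr : toVec (dec 24 c) = (r : GolayPt → ℤ)) {j : ℤ} :
    {x ∈ nbrW | ip r x = j}.ncard ≤ countIp vTree c (j + 8).toNat := by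
  classical
  let L := (vTree.flatten.filter fun e => Nat.beq (ipV c (eCode e)) (j + 8).toNat).map
    fun e => toVec (dec 24 (eCode e))
  have hlen : L.length = countIp vTree c (j + 8).toNat := by
    rw [List.length_map, ← List.countP_eq_length_filter]; rfl
  rw [← Set.ncard_image_of_injective _ (Subtype.val_injective (p := fun x => x ∈ leechLattice)), ← hlen]
  refine le_trans (Set.ncard_le_ncard (t := ↑L.toFinset) ?_ (Finset.finite_toSet _)) ?_
  · rintro _ ⟨x, ⟨hx, hj⟩, rfl⟩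
    obtain ⟨e, he, hv⟩ := exists_entry hx
    refine List.mem_toFinset.2 (List.mem_map.2 ⟨e, List.mem_filter.2 ⟨he, ?_⟩, hv⟩)
    have hm := ip_values hr4 hx.1
    simp only [Finset.mem_insert, Finset.mem_singleton] at hm
    have := ipV_eq hr hv (by omega)
    rw [Nat.beq_eq]
    omega
  · rw [Set.ncard_coe_finset]
    exact List.toFinset_card_le L

/-! ### The orbits on the levels -/

/-- Double counting of the pairs with inner product 2 in two orbits. -/
theorem double_count (P : Subgroup Co0) {m y : leechLattice} {n c : ℕ} (hA : (orbit P m).Finite)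
    (hB : (orbit P y).Finite) (hn : n ≤ {b ∈ orbit P y | ip m b = 2}.ncard)
    (hc : {a ∈ orbit P m | ip y a = 2}.ncard ≤ c) : (orbit P m).ncard * n ≤ (orbit P y).ncard * c := by
  classical
  have move : ∀ (g : P) (x z : leechLattice),
      {b ∈ orbit P z | ip (g.1 • x) b = 2}.ncard = {b ∈ orbit P z | ip x b = 2}.ncard := by
    intro g x z
    rw [← Set.ncard_image_of_injective {b ∈ orbit P z | ip x b = 2} (MulAction.injective g.1)]
    congr 1
    ext b
    constructor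
    · rintro ⟨hb, he⟩
      refine ⟨g.1⁻¹ • b, ⟨?_, ?_⟩, smul_inv_smul _ _⟩
      · obtain ⟨h, rfl⟩ := hb
        exact ⟨g⁻¹ * h, mul_smul g.1⁻¹ h.1 z⟩
      · rw [← co0_ip g.1, smul_inv_smul]; exact he
    · rintro ⟨d, ⟨⟨h, rfl⟩, he⟩, rfl⟩
      exact ⟨⟨g * h, mul_smul g.1 h.1 z⟩, (co0_ip g.1 _ _).trans he⟩
  rw [Set.ncard_eq_toFinset_card _ hA, Set.ncard_eq_toFinset_card _ hB]
  refine Finset.card_mul_le_card_mul (fun a b => ip a b = 2) (fun a ha => ?_) fun b hb => ?_
  · rw [Set.Finite.mem_toFinset] at ha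
    obtain ⟨g, rfl⟩ := ha
    refine hn.trans (le_of_eq ?_)
    rw [← move g m y, ← Set.ncard_coe_finset]
    congr 1
    ext b
    simp [Finset.bipartiteAbove, Subgroup.smul_def]
  · rw [Set.Finite.mem_toFinset] at hb
    obtain ⟨g, rfl⟩ := hb
    refine le_trans (le_of_eq ?_) hc
    rw [← move g y m, ← Set.ncard_coe_finset]
    congr 1
    ext a
    simp [Finset.bipartiteBelow, Subgroup.smul_def, ip_comm a]

theorem orbit_level {y : leechLattice} (hy : y ∈ omega) {k : ℤ} (hk : ip w1 y = k) :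
    orbit mclP y ⊆ {z ∈ omega | ip w1 z = k} := by
  rintro z ⟨g, rfl⟩
  refine ⟨⟨(co0_ip g.1 y y).trans hy.1, ?_⟩, ?_⟩
  · show ip stdA (g.1 • y) = -1
    rw [← show g.1 • stdA = stdA from g.2.1, co0_ip]; exact hy.2
  · show ip w1 (g.1 • y) = k
    rw [← show g.1 • w1 = w1 from g.2.2, co0_ip]; exact hk

theorem orbit_finite {y : leechLattice} (hy : y ∈ omega) : (orbit mclP y).Finite :=
  finite_omega.subset fun _ h => (orbit_level hy rfl h).1

theorem sub_orbit {m y : leechLattice} (h : ip m y = 2) :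
    orbit ↥(mclP ⊓ stabilizer Co0 m) y ⊆ {b ∈ orbit mclP y | ip m b = 2} := by
  rintro b ⟨g, rfl⟩
  refine ⟨⟨⟨g.1, g.2.1⟩, rfl⟩, ?_⟩
  show ip m (g.1 • y) = 2
  exact (congrArg (ip · (g.1 • y)) g.2.2).symm.trans ((co0_ip g.1 m y).trans h)

/-- The level 0 neighbours of a vertex, read at the base vertex. -/
theorem moved_count {M : List (List ℤ)} {yc rc : ℕ} (hM : moveOK M yc wCode2 rc = true)
    {y m r : leechLattice} (hy : toVec (dec 24 yc) = (y : GolayPt → ℤ))
    (hr : toVec (dec 24 rc) = (r : GolayPt → ℤ)) (hr4 : ip r r = 4) (hm : m ∈ omega) (hm0 : ip w1 m = 0) :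
    {a ∈ orbit mclP m | ip y a = 2}.ncard ≤ countIp vTree rc 8 := by
  simp only [moveOK, Bool.and_eq_true, eqV_iff] at hM
  obtain ⟨⟨hg, h1⟩, h2⟩ := hM
  have hs : shapeOK M = true := by
    simp only [genOK, matOK, Bool.and_eq_true] at hg
    exact hg.1.1.1.1.1
  obtain ⟨g, ga, -, hgv⟩ := gen_spec hg
  have mv : ∀ {c d : ℕ} {v z : leechLattice}, toVec (dec 24 c) = (v : GolayPt → ℤ) →
      toVec (dec 24 d) = (z : GolayPt → ℤ) → Co1Mult.step M (dec 24 c) = dec 24 d → g • v = z := by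
    intro c d v z hv hz he
    refine Subtype.ext ?_
    rw [hgv, ← hv, mapMat_toVec hs (length_dec _ _), ← hz, ← he]; rfl
  have e1 := mv hy toVec_wCode2 h1
  have e2 := mv toVec_wCode2 hr h2
  refine le_trans ?_ (ncard_count hr4 hr (j := 0))
  rw [← Set.ncard_image_of_injective {a ∈ orbit mclP m | ip y a = 2} (MulAction.injective g)]
  refine Set.ncard_le_ncard ?_ (nbrW_finite.subset fun _ h => h.1)
  rintro _ ⟨a, ⟨ha, hya⟩, rfl⟩
  obtain ⟨⟨ha4, haA⟩, ha0⟩ := orbit_level hm hm0 ha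
  refine ⟨⟨(co0_ip g a a).trans ha4, ?_, ?_⟩, ?_⟩
  · show ip stdA (g • a) = -1
    rw [← ga, co0_ip]; exact haA
  · show ip w1 (g • a) = 2
    rw [← e1, co0_ip]; exact hya
  · show ip r (g • a) = 0
    rw [← e2, co0_ip]; exact ha0

/-- **The levels are orbits.** -/
theorem levels : (∀ x ∈ omega, ip w1 x ∈ ({4, 2, 0, 1, -2, -1} : Finset ℤ)) ∧
    ∀ x ∈ omega, ∀ x' ∈ omega, ip w1 x = ip w1 x' → ∃ g ∈ mclP, g • x = x' := by
  obtain ⟨-, r0, r1, -, r2, r3, r4, r5⟩ := base_roots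
  obtain ⟨x0, v0, m0, k0⟩ := vtx_spec r0
  obtain ⟨x1, v1, m1, k1⟩ := vtx_spec r1
  obtain ⟨y, v2, m2, k2⟩ := vtx_spec r2
  obtain ⟨z, v3, m3, k3⟩ := vtx_spec r3
  obtain ⟨ry, v4, m4, -⟩ := vtx_spec r4
  obtain ⟨rz, v5, m5, -⟩ := vtx_spec r5
  obtain ⟨a0, a1, -, a2, a3⟩ := base_adj
  obtain ⟨c0, c1, -, c2, c3⟩ := v_counts
  have hs := gens_small
  simp only [Bool.and_eq_true] at hs
  obtain ⟨⟨hsm, hse⟩, hss⟩ := hs
  have he := e_trees
  simp only [Bool.and_eq_true, Nat.beq_eq] at he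
  have ht := s_trees
  simp only [Bool.and_eq_true, Nat.beq_eq] at ht
  have p0 : ip u0 x0 = 2 := by rw [ip_of_ipV toVec_uCode v0 u0_mem.1 m0.1 a0]; norm_num
  have p1 : ip u0 x1 = 2 := by rw [ip_of_ipV toVec_uCode v1 u0_mem.1 m1.1 a1]; norm_num
  have p2 : ip x0 y = 2 := by rw [ip_of_ipV v0 v2 m0.1 m2.1 a2]; norm_num
  have p3 : ip x0 z = 2 := by rw [ip_of_ipV v0 v3 m0.1 m3.1 a3]; norm_num
  have low' : ∀ {m b : leechLattice} {n : ℕ}, b ∈ omega → ip m b = 2 →
      n ≤ (orbit ↥(mclP ⊓ stabilizer Co0 m) b).ncard → n ≤ {x ∈ orbit mclP b | ip m x = 2}.ncard :=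
    fun hb hm h => h.trans (Set.ncard_le_ncard (sub_orbit hm) ((orbit_finite hb).subset fun _ h => h.1))
  have hfu : (orbit mclP u0).Finite := orbit_finite (nbrW_subset u0_mem)
  have hO0 := double_count mclP (c := 30) hfu (orbit_finite m0)
    (low' m0 p0 (low he.1.1.1.1.1 he.1.1.1.1.2 e_cols hse e_gens v0 m0.1))
    (by rw [orbit_u0]; exact (ncard_count m0.1 v0).trans c0.le)
  have hO1 := double_count mclP (c := 162) hfu (orbit_finite m1)
    (low' m1 p1 (low he.1.1.1.2 he.1.1.2 e_cols hse e_gens v1 m1.1))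
    (by rw [orbit_u0]; exact (ncard_count m1.1 v1).trans c1.le)
  rw [orbit_u0, ncard_nbrW] at hO0 hO1
  have hO2 := double_count mclP (orbit_finite m0) (orbit_finite m2)
    (low' m2 p2 (low ht.1.1.1 ht.1.1.2 s_cols hss (s_gens v0) v2 m2.1))
    ((moved_count y_move v2 v4 m4.1 m0 k0).trans c2.le)
  have hO3 := double_count mclP (orbit_finite m0) (orbit_finite m3)
    (low' m3 p3 (low ht.1.2 ht.2 s_cols hss (s_gens v0) v3 m3.1))
    ((moved_count z_move v3 v5 m5.1 m0 k0).trans c3.le)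
  obtain ⟨-, hO, hU⟩ := fill_levels (n := 6) finite_omega (fun z => ip w1 z) ![4, 2, 0, 1, -2, -1] (by decide)
    ![{w1}, nbrW, orbit mclP x0, orbit mclP x1, orbit mclP y, orbit mclP z]
    (by
      intro i
      fin_cases i
      · exact Set.singleton_subset_iff.2 ⟨w1_mem, ip_w1_self⟩
      · exact fun x hx => ⟨nbrW_subset hx, hx.2.2⟩
      exacts [orbit_level m0 k0, orbit_level m1 k1, orbit_level m2 k2, orbit_level m3 k3])
    ![1, 2025, 22275, 15400, 275, 7128]
    (by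
      intro i
      fin_cases i
      · simp
      · simp [ncard_nbrW]
      · show 22275 ≤ (orbit mclP x0).ncard; omega
      · show 15400 ≤ (orbit mclP x1).ncard; omega
      · show 275 ≤ (orbit mclP y).ncard; omega
      · show 7128 ≤ (orbit mclP z).ncard; omega)
    (by rw [show omega.ncard = 47104 from (census4 ip_stdA).2.1]; simp [Fin.sum_univ_succ])
  have hval : ∀ x ∈ omega, ∃ i, x ∈ (![{w1}, nbrW, orbit mclP x0, orbit mclP x1, orbit mclP y,
      orbit mclP z] : Fin 6 → Set leechLattice) i := fun x hx => Set.mem_iUnion.1 (hU.le hx)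
  refine ⟨fun x hx => ?_, fun x hx x' hx' h => ?_⟩
  · obtain ⟨i, hi⟩ := hval x hx
    rw [hO i] at hi
    obtain ⟨-, hi⟩ := hi
    fin_cases i <;> simp at hi <;> simp [hi]
  · obtain ⟨i, hi⟩ := hval x hx
    have hi' : x' ∈ (![{w1}, nbrW, orbit mclP x0, orbit mclP x1, orbit mclP y,
        orbit mclP z] : Fin 6 → Set leechLattice) i := by
      rw [hO i] at hi ⊢; exact ⟨hx', h.symm.trans hi.2⟩
    have same : ∀ {b : leechLattice}, x ∈ orbit mclP b → x' ∈ orbit mclP b → ∃ g ∈ mclP, g • x = x' := by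
      intro b h1 h2
      rw [← MulAction.orbit_eq_iff.2 h1] at h2
      obtain ⟨g, hg⟩ := h2
      exact ⟨g.1, g.2, hg⟩
    fin_cases i
    · exact ⟨1, one_mem _, by rw [one_smul, Set.mem_singleton_iff.1 hi, Set.mem_singleton_iff.1 hi']⟩
    · exact same (b := u0) (by rw [orbit_u0]; exact hi) (by rw [orbit_u0]; exact hi')
    all_goals exact same hi hi'

/-- **The edge stabiliser is transitive on the common neighbours.** -/
theorem common_transitive : ∃ y₂ : leechLattice, (y₂ ∈ nbrW ∧ ip u0 y₂ = 2) ∧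
    ∀ x ∈ nbrW, ip u0 x = 2 → ∃ g ∈ mclP ⊓ stabilizer Co0 u0, g • y₂ = x := by
  obtain ⟨-, -, -, r, -⟩ := base_roots
  obtain ⟨b, v, m, k⟩ := vtx_spec r
  have p : ip u0 b = 2 := by rw [ip_of_ipV toVec_uCode v u0_mem.1 m.1 base_adj.2.2.1]; norm_num
  have hb : b ∈ nbrW := ⟨m.1, m.2, k⟩
  have hs := gens_small
  simp only [Bool.and_eq_true] at hs
  have he := e_trees
  simp only [Bool.and_eq_true, Nat.beq_eq] at he
  have hsub : orbit ↥(mclP ⊓ stabilizer Co0 u0) b ⊆ {x ∈ nbrW | ip u0 x = 2} := by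
    rintro x ⟨g, rfl⟩
    refine ⟨nbrW_smul g.2.1 hb, ?_⟩
    show ip u0 (g.1 • b) = 2
    exact (congrArg (ip · (g.1 • b)) g.2.2).symm.trans ((co0_ip g.1 u0 b).trans p)
  have heq := Set.eq_of_subset_of_ncard_le hsub
    (((ncard_count u0_mem.1 toVec_uCode).trans v_counts.2.2.1.le).trans
      (low he.1.2 he.2 e_cols hs.1.2 e_gens v m.1))
    (nbrW_finite.subset fun _ h => h.1)
  refine ⟨b, ⟨hb, p⟩, fun x hx hx2 => ?_⟩
  obtain ⟨g, hg⟩ := heq.ge (show x ∈ {x ∈ nbrW | ip u0 x = 2} from ⟨hx, hx2⟩)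
  exact ⟨g.1, g.2, hg⟩

end Cfsg.Agent.Co2Mult
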