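import Cfsg.Agent.Lib.Co2Mult.Levels
import Cfsg.Agent.Lib.Co1Mult.Cover

/-!
The graph on the vectors of inner product -1 with the standard minimal vector: transitivity on edges
and triangles and the layered local conditions for the distance from the base vertex.
-/

set_option autoImplicit false
set_option maxRecDepth 20000

namespace Cfsg.Agent.Co2Mult

open Cfsg Cfsg.Agent.Golay Cfsg.Agent.Leech Cfsg.Agent.LeechMod Cfsg.Agent.SporPerm
open Cfsg.Agent.LeechOrbit (dec w1 w1_facts)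
open Cfsg.Agent.Co1Mult (ipV ipV_eq codeAt auxAt allBlock_spec eq_of_ip_four norm_neg Down Layered)

attribute [local irreducible] vTree lauxP1 lauxZ0 lauxN2 lauxN1 lrootP1 lrootZ0 lrootN2 lrootN1 wCode2 uCode

/-- The vertices. -/
def Pt : Type := {x : leechLattice // x ∈ omega}

instance : MulAction stabA Pt where
  smul g x := ⟨g.1 • x.1, (co0_ip g.1 _ _).trans x.2.1, by
    show ip stdA (g.1 • x.1) = -1
    rw [← show g.1 • stdA = stdA from g.2, co0_ip]; exact x.2.2⟩
  one_smul x := Subtype.ext (one_smul _ x.1)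
  mul_smul g h x := Subtype.ext (mul_smul g.1 h.1 x.1)

theorem Pt.val_smul (g : stabA) (x : Pt) : (g • x).1 = g.1 • x.1 := rfl

theorem Pt.ext {x y : Pt} (h : x.1 = y.1) : x = y := Subtype.ext h

/-- The adjacency. -/
def Adj2 (x y : Pt) : Prop := ip x.1 y.1 = 2

theorem Adj2.symm {x y : Pt} (h : Adj2 x y) : Adj2 y x := (ip_comm _ _).trans h

theorem adj2_smul_iff (g : stabA) (x y : Pt) : Adj2 (g • x) (g • y) ↔ Adj2 x y := by
  simp only [Adj2, Pt.val_smul, co0_ip]

/-- A vertex from a vector. -/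
def toPt (v : leechLattice) (h : v ∈ omega) : Pt := ⟨v, h⟩

/-- The base vertex. -/
def pW : Pt := ⟨w1, w1_mem⟩

/-- The base neighbour. -/
def pU : Pt := ⟨u0, nbrW_subset u0_mem⟩

theorem adj_base : Adj2 pW pU := u0_mem.2.2

theorem exists_to_base (x : Pt) : ∃ g : stabA, g • pW = x := by
  obtain ⟨g, g1, g2⟩ := transitive_neg1 ip_stdA w1_facts.1 x.2.1 w1_facts.2 x.2.2
  exact ⟨⟨g, g1⟩, Pt.ext g2⟩

theorem mem_nbrW {x : Pt} (h : Adj2 pW x) : x.1 ∈ nbrW := ⟨x.2.1, x.2.2, h⟩

theorem edge_orbit2 {x y x' y' : Pt} (h : Adj2 x y) (h' : Adj2 x' y') :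
    ∃ g : stabA, g • x = x' ∧ g • y = y' := by
  suffices hs : ∀ {a b : Pt}, Adj2 a b → ∃ g : stabA, g • pW = a ∧ g • pU = b by
    obtain ⟨g, g1, g2⟩ := hs h
    obtain ⟨k, k1, k2⟩ := hs h'
    exact ⟨k * g⁻¹, by rw [mul_smul, ← g1, inv_smul_smul, k1], by rw [mul_smul, ← g2, inv_smul_smul, k2]⟩
  intro a b hab
  obtain ⟨g, g1⟩ := exists_to_base a
  have hb : Adj2 pW (g⁻¹ • b) := by rw [← adj2_smul_iff g, g1, smul_inv_smul]; exact hab
  obtain ⟨p, hp, hpu⟩ := transitive_nbrW (mem_nbrW hb)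
  refine ⟨g * ⟨p, hp.1⟩, ?_, ?_⟩
  · rw [mul_smul, show (⟨p, hp.1⟩ : stabA) • pW = pW from Pt.ext hp.2, g1]
  · rw [mul_smul, show (⟨p, hp.1⟩ : stabA) • pU = g⁻¹ • b from Pt.ext hpu, smul_inv_smul]

theorem triangle_orbit2 {x y z x' y' z' : Pt} (h1 : Adj2 x y) (h2 : Adj2 y z) (h3 : Adj2 z x)
    (k1 : Adj2 x' y') (k2 : Adj2 y' z') (k3 : Adj2 z' x') :
    ∃ g : stabA, g • x = x' ∧ g • y = y' ∧ g • z = z' := by
  obtain ⟨y₂, ⟨hy, -⟩, htr⟩ := common_transitive
  suffices hs : ∀ {a b c : Pt}, Adj2 a b → Adj2 b c → Adj2 c a →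
      ∃ g : stabA, g • pW = a ∧ g • pU = b ∧ g • toPt y₂ (nbrW_subset hy) = c by
    obtain ⟨g, a1, a2, a3⟩ := hs h1 h2 h3
    obtain ⟨k, b1, b2, b3⟩ := hs k1 k2 k3
    exact ⟨k * g⁻¹, by rw [mul_smul, ← a1, inv_smul_smul, b1], by rw [mul_smul, ← a2, inv_smul_smul, b2],
      by rw [mul_smul, ← a3, inv_smul_smul, b3]⟩
  intro a b c hab hbc hca
  obtain ⟨g, g1, g2⟩ := edge_orbit2 adj_base hab
  have e1 : Adj2 pW (g⁻¹ • c) := by rw [← adj2_smul_iff g, g1, smul_inv_smul]; exact hca.symm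
  have e2 : Adj2 pU (g⁻¹ • c) := by rw [← adj2_smul_iff g, g2, smul_inv_smul]; exact hbc
  obtain ⟨p, hp, hpy⟩ := htr _ (mem_nbrW e1) e2
  refine ⟨g * ⟨p, hp.1.1⟩, ?_, ?_, ?_⟩
  · rw [mul_smul, show (⟨p, hp.1.1⟩ : stabA) • pW = pW from Pt.ext hp.1.2, g1]
  · rw [mul_smul, show (⟨p, hp.1.1⟩ : stabA) • pU = pU from Pt.ext hp.2, g2]
  · rw [mul_smul, show (⟨p, hp.1.1⟩ : stabA) • toPt y₂ (nbrW_subset hy) = g⁻¹ • c from Pt.ext hpy,
      smul_inv_smul]

/-! ### The layers -/

/-- The distance from the base vertex, read from the inner product. -/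
def dist2 (x : Pt) : ℕ := layer2 (ip w1 x.1)

theorem pt_values (x y : Pt) : ip x.1 y.1 ∈ ({-4, -2, -1, 0, 1, 2, 4} : Finset ℤ) := ip_values x.2.1 y.2.1

theorem pt_ge (x y : Pt) : -8 ≤ ip x.1 y.1 := by
  have := pt_values x y
  simp only [Finset.mem_insert, Finset.mem_singleton] at this
  omega

theorem base_values (x : Pt) : ip w1 x.1 ∈ ({4, 2, 0, 1, -2, -1} : Finset ℤ) := levels.1 _ x.2

theorem dist2_le (x : Pt) : dist2 x ≤ 3 := by
  have := base_values x
  simp only [Finset.mem_insert, Finset.mem_singleton] at this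
  rcases this with e | e | e | e | e | e <;> (show layer2 (ip w1 x.1) ≤ 3; rw [e]; decide)

theorem dist2_eq_zero {x : Pt} (h : dist2 x = 0) : x = pW := by
  have := base_values x
  simp only [Finset.mem_insert, Finset.mem_singleton] at this
  rcases this with e | e | e | e | e | e <;>
    first
      | exact Pt.ext (eq_of_ip_four w1_facts.1 x.2.1 e)
      | (exfalso; revert h; show layer2 (ip w1 x.1) = 0 → False; rw [e]; decide)

/-- The relation used for connectivity of the lower neighbours. -/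
abbrev Link2 (x : Pt) : Pt → Pt → Prop := fun a b => Adj2 a b ∧ Down Adj2 dist2 x b

/-- The local conditions at a vertex. -/
structure LocalOK2 (x : Pt) : Prop where
  step : ∀ y, Adj2 x y → dist2 y ≤ dist2 x + 1
  pred : dist2 x ≠ 0 → ∃ p, Down Adj2 dist2 x p
  conn : ∀ p q, Down Adj2 dist2 x p → Down Adj2 dist2 x q → Relation.ReflTransGen (Link2 x) p q
  apex : ∀ y, Adj2 x y → dist2 x = dist2 y → ∃ p, Down Adj2 dist2 x p ∧ Adj2 y p

theorem dist_pW : dist2 pW = 0 := by show layer2 (ip w1 w1) = 0; rw [w1_facts.1]; decide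

theorem local_self2 : LocalOK2 pW := by
  refine ⟨fun y hy => ?_, fun h => absurd dist_pW h, fun p q hp => ?_, fun y hy he => ?_⟩
  · show layer2 (ip w1 y.1) ≤ _
    rw [dist_pW, show ip w1 y.1 = 2 from hy]; decide
  · have := hp.2; rw [dist_pW] at this; omega
  · rw [dist2_eq_zero (he.symm.trans dist_pW)] at hy
    exact absurd (show ip w1 w1 = 2 from hy) (by rw [w1_facts.1]; decide)

theorem local_two2 {x : Pt} (hx : Adj2 pW x) : LocalOK2 x := by
  have h1 : dist2 x = 1 := by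
    show layer2 (ip w1 x.1) = 1
    rw [show ip w1 x.1 = 2 from hx]; decide
  have hA : Down Adj2 dist2 x pW := ⟨hx.symm, by rw [h1, dist_pW]⟩
  refine ⟨fun y hy => ?_, fun _ => ⟨pW, hA⟩, fun p q hp hq => ?_, fun y hy he => ⟨pW, hA, ?_⟩⟩
  · have := base_values y
    simp only [Finset.mem_insert, Finset.mem_singleton] at this
    rw [h1]
    have hxy : ip x.1 y.1 = 2 := hy
    have hn : ip (w1 - x.1 + y.1) (w1 - x.1 + y.1) = 4 + 2 * ip w1 y.1 := by
      rw [LatticeMod2.norm_add rootless_ip, LatticeMod2.norm_sub rootless_ip, w1_facts.1, x.2.1, y.2.1,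
        LatticeMod2.sub_left rootless_ip, hxy, show ip w1 x.1 = 2 from hx]
      ring
    rcases this with e | e | e | e | e | e
    case inr.inr.inr.inr.inl =>
      exfalso
      rw [e] at hn
      rcases eq_or_ne (w1 - x.1 + y.1) 0 with h0 | h0
      · have hy0 : ip stdA y.1 = 0 := by
          have e2 : y.1 = x.1 - w1 := by
            rw [← add_left_cancel_iff (a := w1 - x.1), h0]; abel
          rw [e2, ip_sub_right, x.2.2, w1_facts.2]; norm_num
        rw [y.2.2] at hy0; norm_num at hy0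
      · have := rootless_ip.pos _ h0; omega
    case inr.inr.inr.inr.inr =>
      exfalso
      rw [e] at hn
      rcases eq_or_ne (w1 - x.1 + y.1) 0 with h0 | h0
      · rw [h0, LatticeMod2.map_zero_left rootless_ip] at hn; norm_num at hn
      · have := rootless_ip.pos _ h0; omega
    all_goals (show layer2 (ip w1 y.1) ≤ _; rw [e]; decide)
  · have hp0 : p = pW := dist2_eq_zero (by have := hp.2; omega)
    have hq0 : q = pW := dist2_eq_zero (by have := hq.2; omega)
    rw [hp0, hq0]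
  · have := base_values y
    simp only [Finset.mem_insert, Finset.mem_singleton] at this
    rw [h1] at he
    rcases this with e | e | e | e | e | e <;>
      first
        | exact ((ip_comm _ _).trans e : ip y.1 w1 = 2)
        | (exfalso; revert he; show 1 = layer2 (ip w1 y.1) → False; rw [e]; decide)

/-- **The conditions for one level, from its table.** -/
theorem local_class2 {c base : ℕ} {A : List ℕ} {k : ℤ} (hr : vtxOK wCode2 c k = true)
    (hC : classOK2 vTree A c (k + 8).toNat base = true) {x : Pt} (hx : ip w1 x.1 = k) : LocalOK2 x := by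
  obtain ⟨r₀, hrv, hr0, hrk⟩ := vtx_spec hr
  let r : Pt := ⟨r₀, hr0⟩
  obtain ⟨g, g1, g2⟩ : ∃ g : stabA, g • pW = x ∧ g • r = pW := by
    obtain ⟨h, hh⟩ := exists_to_base x
    have hk' : ip w1 r.1 = ip w1 (h⁻¹ • pW).1 := by
      rw [show ip w1 r.1 = k from hrk, ← hx, ← hh, Pt.val_smul, Pt.val_smul]
      show ip w1 (h.1 • w1) = ip w1 (h.1⁻¹ • w1)
      rw [← co0_ip h.1 w1 (h.1⁻¹ • w1), smul_inv_smul, ip_comm]
    obtain ⟨p, hp, hpr⟩ := levels.2 _ r.2 _ (h⁻¹ • pW).2 hk'
    refine ⟨h * ⟨p, hp.1⟩, ?_, ?_⟩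
    · rw [mul_smul, show (⟨p, hp.1⟩ : stabA) • pW = pW from Pt.ext hp.2, hh]
    · rw [mul_smul, show (⟨p, hp.1⟩ : stabA) • r = h⁻¹ • pW from Pt.ext hpr, smul_inv_smul]
  have hd : ∀ y : Pt, dist2 (g • y) = layer2 (ip r₀ y.1) := fun y => by
    show layer2 (ip pW.1 (g • y).1) = _
    rw [← g2, Pt.val_smul, Pt.val_smul, co0_ip]
  have hdx : dist2 x = lay2 (k + 8).toNat := by show layer2 (ip w1 x.1) = _; rw [hx]; rfl
  have node : ∀ i < 2025, ∃ n : Pt, toVec (dec 24 (codeAt vTree i)) = (n.1 : GolayPt → ℤ) ∧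
      Adj2 x (g • n) ∧ lay2 (ipV c (codeAt vTree i)) = dist2 (g • n) := by
    intro i hi
    obtain ⟨v, hv, he⟩ := exists_node hi
    refine ⟨toPt v (nbrW_subset hv), he, ?_, ?_⟩
    · rw [← g1, adj2_smul_iff]; exact hv.2.2
    · rw [hd]; exact lay2_ipV hrv he (pt_ge r (toPt v (nbrW_subset hv)))
  have hnode : ∀ y, Adj2 x y → ∃ i < 2025, ∀ n : Pt,
      toVec (dec 24 (codeAt vTree i)) = (n.1 : GolayPt → ℤ) → g • n = y := by
    intro y hy
    have hn : Adj2 pW (g⁻¹ • y) := by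
      rw [← adj2_smul_iff g, g1, smul_inv_smul]; exact hy
    obtain ⟨i, hi, hv⟩ := exists_index (mem_nbrW hn)
    refine ⟨i, hi, fun n hn' => ?_⟩
    rw [show n = g⁻¹ • y from Pt.ext (Subtype.ext (hn'.symm.trans hv)), smul_inv_smul]
  have link : ∀ {i j : ℕ} {n m : Pt}, toVec (dec 24 (codeAt vTree i)) = (n.1 : GolayPt → ℤ) →
      toVec (dec 24 (codeAt vTree j)) = (m.1 : GolayPt → ℤ) →
      ipV (codeAt vTree i) (codeAt vTree j) = 10 → Adj2 (g • n) (g • m) := fun {i j n m} hn hm h => by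
    rw [adj2_smul_iff]
    show ip n.1 m.1 = 2
    rw [ip_of_ipV hn hm n.2.1 m.2.1 h]; norm_num
  simp only [classOK2, Bool.and_eq_true, Nat.blt_eq] at hC
  obtain ⟨⟨hb, hbd⟩, hall⟩ := hC
  simp only [lowAt, Nat.beq_eq] at hbd
  obtain ⟨nb, hnb, hnbA, hnbl⟩ := node base hb
  have hbase : Down Adj2 dist2 x (g • nb) := ⟨hnbA, by rw [← hnbl, hbd, hdx]⟩
  -- paths to and from the base
  have hpath : ∀ m, ∀ i < 2025, auxAt A i / 8192 = m → ∀ n : Pt,
      toVec (dec 24 (codeAt vTree i)) = (n.1 : GolayPt → ℤ) → Down Adj2 dist2 x (g • n) →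
      Relation.ReflTransGen (Link2 x) (g • n) (g • nb) ∧ Relation.ReflTransGen (Link2 x) (g • nb) (g • n) := by
    intro m
    induction m using Nat.strong_induction_on with
    | _ m ih =>
      intro i hi hm n hn hdown
      obtain ⟨n', hn', -, hl⟩ := node i hi
      obtain rfl : n' = n := Pt.ext (Subtype.ext (hn'.symm.trans hn))
      have hk := allBlock_spec hall hi
      simp only [classAt2, Bool.and_eq_true] at hk
      have hk2 := hk.2
      rw [show lowAt vTree c (k + 8).toNat i = true from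
        (by rw [lowAt, Nat.beq_eq, hl, hdown.2, hdx]), cond_true] at hk2
      cases hz : Nat.beq (auxAt A i / 8192) 0
      · rw [hz, cond_false] at hk2
        simp only [Bool.and_eq_true, Nat.blt_eq, Nat.beq_eq, lowAt] at hk2
        obtain ⟨⟨⟨hq, hql⟩, hlt⟩, hadj⟩ := hk2
        obtain ⟨nq, hnq, hnqA, hnql⟩ := node _ hq
        have hdq : Down Adj2 dist2 x (g • nq) := ⟨hnqA, by rw [← hnql, hql, hdx]⟩
        have hA' : Adj2 (g • n') (g • nq) := link hn hnq hadj
        obtain ⟨h1, h2⟩ := ih _ (hm ▸ hlt) _ hq rfl nq hnq hdq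
        exact ⟨Relation.ReflTransGen.head ⟨hA', hdq⟩ h1, h2.tail ⟨hA'.symm, hdown⟩⟩
      · rw [hz, cond_true] at hk2
        obtain rfl : i = base := Nat.eq_of_beq_eq_true hk2
        obtain rfl : n' = nb := Pt.ext (Subtype.ext (hn.symm.trans hnb))
        exact ⟨Relation.ReflTransGen.refl, Relation.ReflTransGen.refl⟩
  refine ⟨fun y hy => ?_, fun _ => ⟨_, hbase⟩, fun p q hp hq => ?_, fun y hy he => ?_⟩
  · obtain ⟨i, hi, hy'⟩ := hnode y hy
    obtain ⟨n, hn, -, hl⟩ := node i hi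
    have hk := allBlock_spec hall hi
    simp only [classAt2, Bool.and_eq_true, Nat.ble_eq] at hk
    rw [← hy' n hn, ← hl, hdx]
    exact hk.1
  · obtain ⟨i, hi, hp'⟩ := hnode p hp.1
    obtain ⟨j, hj, hq'⟩ := hnode q hq.1
    obtain ⟨n, hn, -, -⟩ := node i hi
    obtain ⟨n', hn', -, -⟩ := node j hj
    rw [← hp' n hn] at hp ⊢
    rw [← hq' n' hn'] at hq ⊢
    exact (hpath _ i hi rfl n hn hp).1.trans (hpath _ j hj rfl n' hn' hq).2
  · obtain ⟨i, hi, hy'⟩ := hnode y hy
    obtain ⟨n, hn, -, hl⟩ := node i hi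
    rw [← hy' n hn] at he ⊢
    have hk := allBlock_spec hall hi
    simp only [classAt2, Bool.and_eq_true] at hk
    have hlay : lay2 (ipV c (codeAt vTree i)) = lay2 (k + 8).toNat := by rw [hl, ← he, hdx]
    have hk2 := hk.2
    rw [show lowAt vTree c (k + 8).toNat i = false from by
        rw [lowAt, ← Bool.not_eq_true, Nat.beq_eq]; omega, cond_false,
      show Nat.beq (lay2 (ipV c (codeAt vTree i))) (lay2 (k + 8).toNat) = true from
        (by rw [Nat.beq_eq]; exact hlay), cond_true] at hk2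
    simp only [Bool.and_eq_true, Nat.blt_eq, Nat.beq_eq, lowAt] at hk2
    obtain ⟨⟨hj, hjl⟩, hadj⟩ := hk2
    obtain ⟨w, hw, hwA, hwl⟩ := node _ hj
    exact ⟨g • w, ⟨hwA, by rw [← hwl, hjl, hdx]⟩, link hn hw hadj⟩

theorem local_all2 (x : Pt) : LocalOK2 x := by
  have := base_values x
  simp only [Finset.mem_insert, Finset.mem_singleton] at this
  obtain ⟨r1, r0, rn2, rn1⟩ := level_roots
  rcases this with e | e | e | e | e | e
  · rw [show x = pW from Pt.ext (eq_of_ip_four w1_facts.1 x.2.1 e)]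
    exact local_self2
  · exact local_two2 e
  · exact local_class2 r0 level_Z0 e
  · exact local_class2 r1 level_P1 e
  · exact local_class2 rn2 level_N2 e
  · exact local_class2 rn1 level_N1 e

theorem layered2 : Layered Adj2 dist2 pW 3 where
  irrefl x h := absurd (x.2.1.symm.trans (show ip x.1 x.1 = 2 from h)) (by norm_num)
  zero _ h := dist2_eq_zero h
  bound := dist2_le
  step x y h := (local_all2 x).step y h
  pred x h := (local_all2 x).pred h
  conn x p q hp hq := (local_all2 x).conn p q hp hq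
  apex x y h he := Or.inl ((local_all2 x).apex y h he)

end Cfsg.Agent.Co2Mult
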