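import Cfsg.Agent.Lib.Co2Mult.ThreeChecks
import Cfsg.Agent.Lib.Schur.SylowKill

/-! The prime 3 in the multiplier of a minimal vector stabiliser. -/

set_option autoImplicit false
set_option maxRecDepth 100000
set_option Elab.async false

namespace Cfsg.Agent.Co2Mult

open Cfsg Cfsg.Agent.Leech
open Cfsg.Agent.PermCert (allBelow allBelow_spec)

attribute [local irreducible] threeData sylMats fusMats

/-- **No kernel element of order 3 in the commutator subgroup of a central extension.** -/
theorem three_part {E : Type*} [Group E] (σ : E →* stabA) (hs : Function.Surjective σ)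
    (hc : σ.ker ≤ Subgroup.center E) {z : E} (hz : σ z = 1) (hzc : z ∈ commutator E) (h3 : z ^ 3 = 1) :
    z = 1 := by
  haveI : Finite Co0 := Nat.finite_of_card_ne_zero (by rw [card_Co0]; norm_num)
  obtain ⟨hp3, hlen, hM⟩ := three_lens
  have hp : threeData.p.Prime := by rw [hp3]; exact Nat.prime_three
  set U := Subgroup.closure {x | ∃ q < threeData.a.length, x = letter sylMats q}
  have hcard : Nat.card U = 729 := by
    rw [card_closure hp three_rules three_seq, hp3, hlen]; norm_num
  have hidx : ¬ 3 ∣ U.index := by
    have h := U.card_mul_index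
    rw [hcard, card_stab4 ip_stdA] at h
    omega
  obtain ⟨hm, hcomm⟩ := SylowKill.transfer_step σ hs U (hc hz) hz hzc
  have h1 := Tails.kill three_wf (facts three_rules) three_rows three_rels three_derived
    (Tails.chain_of _ _ _ (allBelow_spec _ _ three_chainOK)) hp (gs_ne hM three_gsNe) σ hc
    (fun q _ => MonoidHom.mem_range.2 (hs _)) (fun t _ => MonoidHom.mem_range.2 (hs _))
    (U := U) le_rfl ⟨_, hm⟩ hcomm (by simp [hz])
  change z ^ U.index = 1 at h1
  have h2 := orderOf_dvd_of_pow_eq_one h1
  have h3' := orderOf_dvd_of_pow_eq_one h3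
  rcases (Nat.dvd_prime Nat.prime_three).1 h3' with h | h
  · exact orderOf_eq_one_iff.1 h
  · exact absurd (h ▸ h2) hidx

end Cfsg.Agent.Co2Mult
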