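import Cfsg.Agent.Lib.Co2Mult.Local
import Cfsg.Agent.Lib.Co2Mult.Engine
import Cfsg.Agent.Lib.Co2Mult.Three
import Cfsg.Agent.Lib.Leech.SporGroups
import Cfsg.Agent.Lib.Schur.SL2Root
import Cfsg.Agent.Lib.Schur.Congr
import Cfsg.Prelude.Def_KGroupFacts

/-!
A minimal vector stabiliser in the automorphism group of the lattice has trivial multiplier, given
that the stabiliser of two minimal vectors with inner product -1 has multiplier of order 3.
-/

set_option autoImplicit false
set_option maxRecDepth 20000

namespace Cfsg.Agent.Co2Mult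

open Cfsg Cfsg.Agent.Golay Cfsg.Agent.Leech
open Cfsg.Agent.LeechOrbit (w1 w1_facts mclH mclH_eq)
open MulAction (stabilizer)
open scoped commutatorElement

/-- A simple subgroup of order not a prime is perfect. -/
theorem simple_perfect {G : Type*} [Group G] (S : Subgroup G) [IsSimpleGroup S]
    (hnp : ¬ (Nat.card S).Prime) : ⁅S, S⁆ = S := by
  have hc : commutator S = ⊤ := by
    rcases (inferInstance : (commutator S).Normal).eq_bot_or_eq_top with h | h
    · exfalso
      letI : CommGroup S :=
        { (inferInstance : Group S) with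
          mul_comm := fun a b => by
            rw [← commutatorElement_eq_one_iff_mul_comm, ← Subgroup.mem_bot, ← h]
            exact Subgroup.commutator_mem_commutator (Subgroup.mem_top a) (Subgroup.mem_top b) }
      exact hnp IsSimpleGroup.prime_card
    · exact h
  rw [← Subgroup.map_subtype_commutator, hc, ← MonoidHom.range_eq_map, Subgroup.range_subtype]

theorem map_stab (p : Pt) :
    (stabilizer stabA p).map stabA.subtype = stabA ⊓ stabilizer Co0 p.1 := by
  ext g
  constructor
  · rintro ⟨h, hh, rfl⟩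
    exact ⟨h.2, show h.1 • p.1 = p.1 from congrArg Subtype.val hh⟩
  · rintro ⟨h1, h2⟩
    exact ⟨⟨g, h1⟩, Pt.ext h2, rfl⟩

theorem mclP_perfect : ⁅mclP, mclP⁆ = mclP := by
  have h := isMcL_stab ip_stdA w1_facts.1 w1_facts.2
  haveI := h.1
  refine simple_perfect _ ?_
  rw [h.2, show (898128000 : ℕ) = 2 * 449064000 by norm_num]
  exact Nat.not_prime_mul (by norm_num) (by norm_num)

theorem edge_perfect : ⁅mclP ⊓ stabilizer Co0 u0, mclP ⊓ stabilizer Co0 u0⁆ = mclP ⊓ stabilizer Co0 u0 := by
  have e : mclP ⊓ stabilizer Co0 u0 = mclH := by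
    ext g
    constructor
    · rintro ⟨hp, hu⟩
      refine ⟨hp, ?_⟩
      have hu' : g • u0 = u0 := hu
      rw [u0, co0_sub, show g • w1 = w1 from hp.2] at hu'
      exact sub_right_injective hu'
    · rintro ⟨hp, hd⟩
      refine ⟨hp, ?_⟩
      show g • u0 = u0
      rw [u0, co0_sub, show g • w1 = w1 from hp.2, show g • dVec = dVec from hd]
  rw [e, mclH_eq]
  haveI := simple_permSub22
  refine simple_perfect _ ?_
  rw [card_permSub22, show (443520 : ℕ) = 2 * 221760 by norm_num]
  exact Nat.not_prime_mul (by norm_num) (by norm_num)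

theorem vert_perfect : ⁅stabilizer stabA pW, stabilizer stabA pW⁆ = stabilizer stabA pW := by
  refine Subgroup.map_injective stabA.subtype_injective ?_
  rw [Subgroup.map_commutator, map_stab]
  exact mclP_perfect

theorem edge2_perfect : ⁅stabilizer stabA pW ⊓ stabilizer stabA pU, stabilizer stabA pW ⊓ stabilizer stabA pU⁆
    = stabilizer stabA pW ⊓ stabilizer stabA pU := by
  refine Subgroup.map_injective stabA.subtype_injective ?_
  rw [Subgroup.map_commutator, Subgroup.map_inf _ _ _ stabA.subtype_injective, map_stab, map_stab]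
  have e : stabA ⊓ stabilizer Co0 pW.1 ⊓ (stabA ⊓ stabilizer Co0 pU.1) = mclP ⊓ stabilizer Co0 u0 := by
    ext g
    exact ⟨fun h => ⟨h.1, h.2.2⟩, fun h => ⟨h.1, h.1.1, h.2⟩⟩
  rw [e]
  exact edge_perfect

theorem w1_eq : w1 = -(Spor.leechV + Spor.leechU) := by
  refine Subtype.ext (funext fun i => ?_)
  rw [w1, AddSubgroup.coe_sub, Pi.sub_apply, vec6_apply, stdA_apply, AddSubgroup.coe_neg, Pi.neg_apply,
    AddSubgroup.coe_add, Pi.add_apply]
  show _ = -(Spor.vecV i + Spor.vecU i)
  revert i; decide

theorem leechU_eq : Spor.leechU = stdA := by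
  refine Subtype.ext (funext fun p => ?_)
  rw [stdA_apply]
  show Spor.vecU p = _
  revert p; decide

/-- The pair stabiliser is the named group. -/
noncomputable def mclPEquiv : mclP ≃* Spor.McL :=
  inCo0Equiv _ _ (fun g => by
    constructor
    · rintro ⟨hU, hw⟩
      have hU' : g • Spor.leechU = Spor.leechU := by rw [leechU_eq]; exact hU
      have hw' : g • -(Spor.leechV + Spor.leechU) = -(Spor.leechV + Spor.leechU) := by rw [← w1_eq]; exact hw
      rw [co0_neg, co0_add, hU'] at hw'
      exact ⟨⟨g.2, add_right_cancel (neg_injective hw')⟩, hU'⟩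
    · rintro ⟨⟨-, hV⟩, hU⟩
      have hV' : g • Spor.leechV = Spor.leechV := hV
      have hU' : g • Spor.leechU = Spor.leechU := hU
      refine ⟨by rw [← leechU_eq]; exact hU', ?_⟩
      show g • w1 = w1
      rw [w1_eq, co0_neg, co0_add, hU', hV']) (inf_le_left.trans inf_le_left)

/-- **The kernel meets the commutator subgroup in elements of order dividing 3.** -/
theorem three_torsion (hM : Cfsg.HasCyclicSchurMultiplier ↥Spor.McL 3) {E : Type} [Group E] [Finite E]
    (σ : E →* stabA) (hs : Function.Surjective σ) (hcen : σ.ker ≤ Subgroup.center E) {z : E}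
    (hz : z ∈ σ.ker) (hzc : z ∈ commutator E) : z ^ 3 = 1 := by
  set S := stabilizer stabA pW with hS
  set L0 : Subgroup E := S.comap σ with hL0
  set L : Subgroup E := ⁅L0, L0⁆ with hL
  set Z0 : Subgroup E := σ.ker ⊓ L with hZ0
  haveI hN : Z0.Normal := ⟨fun n hn g => by
    rw [Subgroup.mem_center_iff.1 (hcen hn.1) g, mul_inv_cancel_right]; exact hn⟩
  let q := QuotientGroup.mk' Z0
  let σ' : E ⧸ Z0 →* stabA := QuotientGroup.lift Z0 σ fun x hx => hx.1
  have hq : ∀ x, σ' (q x) = σ x := fun _ => rfl
  have hqs : Function.Surjective q := QuotientGroup.mk'_surjective Z0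
  have hzL : z ∈ L := by
    have h1 : q z = 1 := by
      refine engine (adj := Adj2) (fun _ _ h => h.symm) (fun g x y h => (adj2_smul_iff g x y).2 h)
        adj_base (b := pU) (c := toPt _ (nbrW_subset common_transitive.choose_spec.1.1))
        common_transitive.choose_spec.1.2 ?_ exists_to_base vert_perfect edge2_perfect
        (fun _ _ _ _ => edge_orbit2) (fun _ _ _ _ _ _ => triangle_orbit2) layered2 σ'
        (fun g => (hs g).elim fun e he => ⟨q e, (hq e).trans he⟩) ?_ ?_ ?_ ?_
      · exact (ip_comm _ _).trans common_transitive.choose_spec.1.1.2.2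
      · intro x hx
        obtain ⟨e, rfl⟩ := hqs x
        have hc := Subgroup.mem_center_iff.1 (hcen (show e ∈ σ.ker from (hq e).symm.trans hx))
        refine Subgroup.mem_center_iff.2 fun y => ?_
        obtain ⟨f, rfl⟩ := hqs y
        rw [← map_mul, ← map_mul, hc f]
      · intro x hx hxL
        have e0 : S.comap σ' = L0.map q := by
          rw [← Subgroup.map_comap_eq_self_of_surjective hqs (S.comap σ'), Subgroup.comap_comap]
          rfl
        rw [e0, ← Subgroup.map_commutator] at hxL
        obtain ⟨l, hl, rfl⟩ := hxL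
        exact (QuotientGroup.eq_one_iff l).2 ⟨(hq l).symm.trans hx, hl⟩
      · exact (hq z).trans hz
      · have : q z ∈ (commutator E).map q := Subgroup.mem_map_of_mem _ hzc
        rw [commutator_def, Subgroup.map_commutator, Subgroup.map_top_of_surjective _ hqs] at this
        exact this
    exact ((QuotientGroup.eq_one_iff z).1 h1).2
  -- the stem extension of the vertex stabiliser
  have hL0map : L0.map σ = S := Subgroup.map_comap_eq_self_of_surjective hs S
  have hLmap : L.map σ = S := by rw [hL, Subgroup.map_commutator, hL0map, vert_perfect]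
  have hLle : L ≤ L0 := Subgroup.commutator_le.2 fun a ha b hb => by
    rw [commutatorElement_def]
    exact mul_mem (mul_mem (mul_mem ha hb) (inv_mem ha)) (inv_mem hb)
  have hsplit : ∀ a ∈ L0, ∃ l ∈ L, l⁻¹ * a ∈ σ.ker := fun a ha => by
    obtain ⟨l, hl, he⟩ : σ a ∈ L.map σ := by rw [hLmap]; exact ha
    exact ⟨l, hl, by rw [MonoidHom.mem_ker, map_mul, map_inv, he, inv_mul_cancel]⟩
  have hLperf : ⁅L, L⁆ = L := by
    refine le_antisymm (Subgroup.commutator_mono hLle hLle) (Subgroup.commutator_le.2 fun a ha b hb => ?_)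
    obtain ⟨l, hl, hla⟩ := hsplit a ha
    obtain ⟨m, hm, hmb⟩ := hsplit b hb
    rw [← mul_inv_cancel_left l a, ← mul_inv_cancel_left m b,
      SL2Root.comm_congr (hcen hla) (hcen hmb)]
    exact Subgroup.commutator_mem_commutator hl hm
  let τ : L →* S := (σ.comp L.subtype).codRestrict S fun l => hLle l.2
  have hst : Cfsg.IsStemExtension τ := by
    refine ⟨fun h => ?_, fun l hl => ?_, ?_⟩
    · obtain ⟨l, hl, he⟩ : (h : stabA) ∈ L.map σ := by rw [hLmap]; exact h.2
      exact ⟨⟨l, hl⟩, Subtype.ext he⟩
    · have : (l : E) ∈ Subgroup.center E := hcen (congrArg Subtype.val hl)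
      exact Subgroup.mem_center_iff.2 fun g => Subtype.ext (Subgroup.mem_center_iff.1 this g)
    · have : commutator L = ⊤ := by
        refine Subgroup.map_injective L.subtype_injective ?_
        rw [Subgroup.map_subtype_commutator, hLperf, ← MonoidHom.range_eq_map, Subgroup.range_subtype]
      rw [this]; exact le_top
  let e : S ≃* mclP := (S.equivMapOfInjective _ stabA.subtype_injective).trans
    (MulEquiv.subgroupCongr (map_stab pW))
  obtain ⟨π, hπ⟩ := (Schur.hasCyclicSchurMultiplier_of_mulEquiv (e.trans mclPEquiv).symm hM).2 L τ hst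
  obtain ⟨a, ha⟩ := hπ ⟨⟨z, hzL⟩, Subtype.ext hz⟩
  have h3 : a ^ 3 = 1 := by
    have := pow_card_eq_one' (G := Multiplicative (ZMod 3)) (x := a)
    simpa using this
  have := congrArg (fun x : τ.ker => ((x : L) : E)) (show (π a) ^ 3 = 1 by rw [← map_pow, h3, map_one])
  rw [ha] at this
  simpa using this

/-- **The multiplier is trivial.** -/
theorem multiplier_stabA (hM : Cfsg.HasCyclicSchurMultiplier ↥Spor.McL 3) :
    Cfsg.HasCyclicSchurMultiplier ↥stabA 1 := by
  haveI : Finite Co0 := Nat.finite_of_card_ne_zero (by rw [card_Co0]; norm_num)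
  refine ⟨⟨stabA, inferInstance, inferInstance, MonoidHom.id stabA,
    ⟨Function.surjective_id, ?_, ?_⟩, ?_⟩, fun Γ _ _ σ hσ => ⟨1, fun z => ?_⟩⟩
  · rw [MonoidHom.ker_id]; exact bot_le
  · rw [MonoidHom.ker_id]; exact bot_le
  · rw [MonoidHom.ker_id]
    haveI : Unique (Multiplicative (ZMod 1)) := Unique.mk' _
    exact ⟨MulEquiv.ofUnique⟩
  · refine ⟨1, Subtype.ext ?_⟩
    have h3 := three_torsion hM σ hσ.1 hσ.2.1 z.2 (hσ.2.2 z.2)
    have hz : z.1 = 1 := three_part σ hσ.1 hσ.2.1 (MonoidHom.mem_ker.1 z.2) (hσ.2.2 z.2) h3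
    simp [hz]

/-- **The named group has trivial multiplier**, from the multiplier of its point stabiliser. -/
theorem multiplier_Co2 (hM : Cfsg.HasCyclicSchurMultiplier ↥Spor.McL 3) :
    Cfsg.HasCyclicSchurMultiplier ↥Spor.Co2 1 := by
  have e : stabA ≃* Spor.Co2 :=
    (MulEquiv.subgroupCongr (show stabA = stabilizer Co0 Spor.leechU by rw [leechU_eq])).trans sporCo2Equiv
  exact Schur.hasCyclicSchurMultiplier_of_mulEquiv e (multiplier_stabA hM)

end Cfsg.Agent.Co2Mult
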