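import Cfsg.Agent.Lib.Compute.SchurDefs

/-! Tail certificate for the prime 3 in a minimal vector stabiliser: matrices and rules. -/

set_option autoImplicit false
set_option maxRecDepth 20000

namespace Cfsg.Agent.Co2Mult

open Cfsg.Agent.PermSchur

/-- Sylow generator 0. -/
def sylMat0 : List (List ℤ) :=
  [
   [4, 0, (-2), (-2), 0, 0, (-2), 0, 0, 0, 0, 0, 0, 0, (-2), 0, 0, (-2), (-2), 0, (-2), 0, (-2), 4],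
   [(-2), (-2), 0, 0, 2, 2, 0, (-2), (-2), (-2), (-2), 2, (-2), 2, 0, 2, 2, 0, 0, 2, 0, (-2), 0, 2],
   [0, 0, (-2), (-2), 0, 0, (-2), 0, 0, 0, 0, 0, 4, 0, 2, 0, 4, 2, 2, 0, (-2), 0, 2, 0],
   [0, 0, 2, (-2), 0, 0, (-2), 0, 0, 0, 0, 4, 0, 0, 2, 0, 0, (-2), (-2), 0, 2, 4, 2, 0],
   [0, 0, 2, (-2), 0, 0, 2, 0, 0, 4, 0, 0, 0, 4, 2, 0, 0, (-2), 2, 0, (-2), 0, (-2), 0],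
   [(-2), 2, 0, 0, 2, (-2), 0, (-2), 2, (-2), (-2), (-2), 2, 2, 0, (-2), (-2), 0, 0, 2, 0, 2, 0, 2],
   [0, 4, 2, 2, 0, 4, (-2), 0, 0, 0, 0, 0, 0, 0, 2, 0, 0, 2, (-2), 0, (-2), 0, (-2), 0],
   [0, 0, (-2), 2, 0, 0, (-2), 0, 0, 4, 0, 0, 0, 4, (-2), 0, 0, 2, (-2), 0, 2, 0, 2, 0],
   [(-2), 2, 0, 0, (-2), (-2), 0, 2, (-2), (-2), 2, (-2), (-2), 2, 0, 2, 2, 0, 0, (-2), 0, 2, 0, 2],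
   [0, 0, 2, 2, 0, 0, (-2), 0, 0, 0, 4, 0, 0, 0, (-2), 0, 0, (-2), 2, 4, (-2), 0, 2, 0],
   [0, 0, 2, (-2), 4, 0, (-2), 4, 0, 0, 0, 0, 0, 0, (-2), 0, 0, 2, 2, 0, 2, 0, (-2), 0],
   [(-2), (-2), 0, 0, (-2), 2, 0, 2, 2, 2, (-2), (-2), (-2), (-2), 0, (-2), 2, 0, 0, 2, 0, 2, 0, 2],
   [(-2), 2, 0, 0, 2, (-2), 0, (-2), 2, 2, 2, 2, (-2), (-2), 0, (-2), 2, 0, 0, (-2), 0, (-2), 0, 2],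
   [0, 0, (-2), (-2), 0, 0, 2, 0, 0, 0, 4, 0, 0, 0, 2, 0, 0, 2, (-2), 4, 2, 0, (-2), 0],
   [0, 4, (-2), (-2), 0, 4, 2, 0, 0, 0, 0, 0, 0, 0, (-2), 0, 0, (-2), 2, 0, 2, 0, 2, 0],
   [(-2), (-2), 0, 0, (-2), 2, 0, 2, 2, (-2), 2, 2, 2, 2, 0, (-2), (-2), 0, 0, (-2), 0, (-2), 0, 2],
   [(-2), (-2), 0, 0, 2, 2, 0, (-2), (-2), 2, 2, (-2), 2, (-2), 0, 2, (-2), 0, 0, (-2), 0, 2, 0, 2],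
   [0, 0, (-2), 2, 0, 0, (-2), 0, 4, 0, 0, 0, 0, 0, 2, 4, 0, (-2), 2, 0, 2, 0, (-2), 0],
   [0, 0, 2, 2, 0, 0, 2, 0, 0, 0, 0, 0, 4, 0, (-2), 0, 4, (-2), (-2), 0, 2, 0, (-2), 0],
   [0, 0, (-2), 2, 4, 0, 2, 4, 0, 0, 0, 0, 0, 0, 2, 0, 0, (-2), (-2), 0, (-2), 0, 2, 0],
   [0, 0, 2, (-2), 0, 0, 2, 0, 4, 0, 0, 0, 0, 0, (-2), 4, 0, 2, (-2), 0, (-2), 0, 2, 0],
   [(-2), 2, 0, 0, (-2), (-2), 0, 2, (-2), 2, (-2), 2, 2, (-2), 0, 2, (-2), 0, 0, 2, 0, (-2), 0, 2],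
   [0, 0, (-2), 2, 0, 0, 2, 0, 0, 0, 0, 4, 0, 0, (-2), 0, 0, 2, 2, 0, (-2), 4, (-2), 0],
   [4, 0, 2, 2, 0, 0, 2, 0, 0, 0, 0, 0, 0, 0, 2, 0, 0, 2, 2, 0, 2, 0, 2, 4]]

/-- Sylow generator 1. -/
def sylMat1 : List (List ℤ) :=
  [
   [6, 2, (-2), (-2), 0, (-2), 0, 0, 0, 0, 0, 0, 0, 0, (-2), 0, 0, (-2), 0, 0, 0, 0, 0, 2],
   [0, 0, 0, 0, 2, 0, 2, (-2), (-2), (-2), (-2), 2, (-2), 2, 0, 2, 2, 0, 2, 2, 2, (-2), 2, 0],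
   [0, 0, 0, 0, 2, 0, (-2), (-2), 2, (-2), 2, 2, 2, (-2), 0, (-2), 2, 0, 2, 2, 2, 2, (-2), 0],
   [0, 0, 0, 0, (-2), 0, (-2), (-2), 2, 2, (-2), 2, 2, 2, 0, 2, (-2), 0, 2, 2, (-2), 2, 2, 0],
   [0, 0, 0, 0, 2, 0, 2, (-2), 2, 2, 2, (-2), 2, 2, 0, (-2), 2, 0, (-2), 2, (-2), (-2), 2, 0],
   [(-2), 2, (-2), (-2), 0, 6, 0, 0, 0, 0, 0, 0, 0, 0, (-2), 0, 0, (-2), 0, 0, 0, 0, 0, 2],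
   [2, 6, 2, 2, 0, 2, 0, 0, 0, 0, 0, 0, 0, 0, 2, 0, 0, 2, 0, 0, 0, 0, 0, (-2)],
   [0, 0, 0, 0, 2, 0, (-2), 2, 2, 2, 2, 2, (-2), (-2), 0, 2, (-2), 0, (-2), 2, 2, (-2), 2, 0],
   [(-2), 2, (-2), (-2), 0, (-2), 0, 0, 0, 0, 0, 0, 0, 0, (-2), 0, 0, 6, 0, 0, 0, 0, 0, 2],
   [0, 0, 0, 0, 2, 0, (-2), 2, (-2), 2, 2, 2, (-2), 2, 0, (-2), 2, 0, 2, (-2), (-2), 2, 2, 0],
   [0, 0, 0, 0, (-2), 0, (-2), 2, (-2), 2, 2, (-2), 2, 2, 0, 2, 2, 0, 2, 2, 2, (-2), (-2), 0],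
   [0, 0, 0, 0, (-2), 0, 2, 2, (-2), (-2), 2, 2, 2, (-2), 0, 2, 2, 0, (-2), 2, (-2), 2, 2, 0],
   [(-2), 2, 6, (-2), 0, (-2), 0, 0, 0, 0, 0, 0, 0, 0, (-2), 0, 0, (-2), 0, 0, 0, 0, 0, 2],
   [0, 0, 0, 0, 2, 0, 2, 2, 2, (-2), 2, (-2), (-2), 2, 0, 2, (-2), 0, 2, 2, (-2), 2, (-2), 0],
   [(-2), 2, (-2), (-2), 0, (-2), 0, 0, 0, 0, 0, 0, 0, 0, 6, 0, 0, (-2), 0, 0, 0, 0, 0, 2],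
   [0, 0, 0, 0, (-2), 0, 2, (-2), 2, 2, 2, 2, (-2), 2, 0, 2, 2, 0, (-2), (-2), 2, 2, (-2), 0],
   [0, 0, 0, 0, 2, 0, 2, 2, 2, 2, (-2), 2, 2, (-2), 0, 2, 2, 0, 2, (-2), (-2), (-2), (-2), 0],
   [0, 0, 0, 0, 2, 0, (-2), 2, 2, (-2), (-2), (-2), 2, 2, 0, 2, 2, 0, (-2), (-2), 2, 2, 2, 0],
   [0, 0, 0, 0, 2, 0, 2, (-2), (-2), 2, 2, (-2), 2, (-2), 0, 2, (-2), 0, 2, (-2), 2, 2, 2, 0],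
   [0, 0, 0, 0, 2, 0, 2, 2, (-2), 2, (-2), 2, 2, 2, 0, (-2), (-2), 0, (-2), 2, 2, 2, (-2), 0],
   [0, 0, 0, 0, (-2), 0, 2, 2, 2, (-2), 2, 2, 2, 2, 0, (-2), (-2), 0, 2, (-2), 2, (-2), 2, 0],
   [(-2), 2, (-2), 6, 0, (-2), 0, 0, 0, 0, 0, 0, 0, 0, (-2), 0, 0, (-2), 0, 0, 0, 0, 0, 2],
   [0, 0, 0, 0, (-2), 0, 2, 2, 2, 2, (-2), (-2), (-2), (-2), 0, (-2), 2, 0, 2, 2, 2, 2, 2, 0],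
   [2, (-2), 2, 2, 0, 2, 0, 0, 0, 0, 0, 0, 0, 0, 2, 0, 0, 2, 0, 0, 0, 0, 0, 6]]

/-- Sylow generator 2. -/
def sylMat2 : List (List ℤ) :=
  [
   [6, 2, 0, 0, 0, 0, (-2), 0, 0, 0, 0, (-2), 0, 0, (-2), (-2), (-2), 0, 0, 0, 0, 0, 0, 2],
   [0, 0, 2, 2, 2, 2, 0, (-2), (-2), (-2), (-2), 0, (-2), 2, 0, 0, 0, 2, 2, 2, 2, (-2), 2, 0],
   [0, 0, 2, 2, 2, 2, 0, 2, 2, 2, (-2), 0, 2, (-2), 0, 0, 0, 2, 2, (-2), (-2), (-2), (-2), 0],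
   [0, 0, 2, 2, (-2), 2, 0, 2, (-2), (-2), 2, 0, 2, (-2), 0, 0, 0, 2, (-2), 2, (-2), 2, 2, 0],
   [0, 0, (-2), (-2), 2, 2, 0, (-2), (-2), 2, 2, 0, 2, 2, 0, 0, 0, 2, 2, 2, (-2), 2, (-2), 0],
   [2, 6, 0, 0, 0, 0, 2, 0, 0, 0, 0, 2, 0, 0, 2, 2, 2, 0, 0, 0, 0, 0, 0, (-2)],
   [(-2), 2, 0, 0, 0, 0, 6, 0, 0, 0, 0, (-2), 0, 0, (-2), (-2), (-2), 0, 0, 0, 0, 0, 0, 2],
   [0, 0, (-2), 2, (-2), (-2), 0, 2, 2, 2, 2, 0, (-2), 2, 0, 0, 0, 2, 2, 2, (-2), (-2), 2, 0],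
   [(-2), 2, 0, 0, 0, 0, (-2), 0, 0, 0, 0, (-2), 0, 0, (-2), 6, (-2), 0, 0, 0, 0, 0, 0, 2],
   [0, 0, 2, 2, 2, (-2), 0, 2, (-2), 2, 2, 0, (-2), (-2), 0, 0, 0, (-2), 2, 2, 2, 2, (-2), 0],
   [0, 0, 2, (-2), 2, (-2), 0, 2, (-2), 2, 2, 0, 2, 2, 0, 0, 0, 2, (-2), (-2), 2, (-2), 2, 0],
   [0, 0, (-2), 2, 2, (-2), 0, (-2), 2, 2, (-2), 0, 2, (-2), 0, 0, 0, 2, (-2), 2, 2, 2, 2, 0],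
   [(-2), 2, 0, 0, 0, 0, (-2), 0, 0, 0, 0, (-2), 0, 0, (-2), (-2), 6, 0, 0, 0, 0, 0, 0, 2],
   [0, 0, (-2), 2, 2, 2, 0, 2, 2, (-2), 2, 0, 2, 2, 0, 0, 0, (-2), (-2), 2, 2, (-2), (-2), 0],
   [(-2), 2, 0, 0, 0, 0, (-2), 0, 0, 0, 0, (-2), 0, 0, 6, (-2), (-2), 0, 0, 0, 0, 0, 0, 2],
   [0, 0, 2, (-2), (-2), (-2), 0, 2, 2, (-2), (-2), 0, 2, 2, 0, 0, 0, 2, 2, 2, 2, 2, (-2), 0],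
   [0, 0, 2, 2, 2, (-2), 0, (-2), 2, (-2), 2, 0, 2, 2, 0, 0, 0, (-2), 2, (-2), (-2), 2, 2, 0],
   [0, 0, 2, 2, (-2), 2, 0, (-2), 2, 2, 2, 0, (-2), 2, 0, 0, 0, 2, (-2), (-2), 2, 2, (-2), 0],
   [0, 0, 2, (-2), (-2), 2, 0, (-2), 2, 2, 2, 0, 2, (-2), 0, 0, 0, (-2), 2, 2, 2, (-2), 2, 0],
   [0, 0, 2, (-2), 2, 2, 0, 2, 2, 2, (-2), 0, (-2), 2, 0, 0, 0, (-2), (-2), 2, (-2), 2, 2, 0],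
   [0, 0, (-2), (-2), 2, 2, 0, 2, 2, (-2), 2, 0, (-2), (-2), 0, 0, 0, 2, 2, (-2), 2, 2, 2, 0],
   [(-2), 2, 0, 0, 0, 0, (-2), 0, 0, 0, 0, 6, 0, 0, (-2), (-2), (-2), 0, 0, 0, 0, 0, 0, 2],
   [0, 0, (-2), 2, (-2), 2, 0, 2, (-2), 2, (-2), 0, 2, 2, 0, 0, 0, (-2), 2, (-2), 2, 2, 2, 0],
   [2, (-2), 0, 0, 0, 0, 2, 0, 0, 0, 0, 2, 0, 0, 2, 2, 2, 0, 0, 0, 0, 0, 0, 6]]

/-- Sylow generator 3. -/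
def sylMat3 : List (List ℤ) :=
  [
   [5, (-1), (-1), 1, 1, 1, (-1), (-1), 1, (-1), 1, (-1), (-1), (-1), (-3), (-1), (-1), (-1), (-1), 1, (-1), (-1), (-1), 3],
   [(-3), (-1), (-1), 1, 1, 1, (-1), (-1), 1, (-1), 1, (-1), (-1), (-1), 5, (-1), (-1), (-1), (-1), 1, (-1), (-1), (-1), 3],
   [(-1), 1, 1, (-1), (-1), 3, 1, 1, (-1), 1, 3, 1, 1, (-3), (-1), (-3), 1, 1, 1, (-1), 1, 1, (-3), 1],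
   [(-1), (-3), (-3), 3, (-1), 3, 1, 1, (-1), 1, (-1), 1, 1, 1, (-1), 1, 1, (-3), 1, (-1), 1, 1, 1, 1],
   [1, (-1), 3, 1, 1, 1, 3, (-1), 1, 3, 1, (-1), (-1), 3, 1, (-1), (-1), (-1), 3, 1, (-1), (-1), (-1), (-1)],
   [(-1), 1, 1, (-1), 3, 3, 1, 1, (-1), (-3), (-1), 1, 1, 1, (-1), 1, (-3), 1, 1, (-1), (-3), 1, 1, 1],
   [1, 3, (-1), 1, 1, 1, 3, (-1), 1, (-1), 1, 3, (-1), (-1), 1, 3, 3, (-1), (-1), 1, (-1), (-1), (-1), (-1)],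
   [1, (-1), (-1), 1, 1, 1, (-1), 3, 1, 3, 1, (-1), (-1), (-1), 1, 3, (-1), 3, (-1), 1, (-1), 3, (-1), (-1)],
   [(-1), (-3), 1, (-1), (-1), (-1), 1, 1, 3, (-3), (-1), 1, 1, 1, (-1), 1, 1, 1, 1, 3, 1, 1, (-3), 1],
   [(-1), 1, 1, (-1), (-1), (-1), (-3), 1, (-1), 1, 3, 1, 1, 1, (-1), 1, 1, (-3), 1, 3, (-3), 1, 1, 1],
   [(-1), (-3), 1, (-1), 3, (-1), 1, 1, (-1), 1, 3, 1, 1, 1, (-1), 1, 1, 1, (-3), (-1), 1, (-3), 1, 1],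
   [1, (-1), 3, 1, 1, 1, (-1), (-1), 1, (-1), 1, 3, (-1), (-1), 1, (-1), (-1), (-1), (-1), 1, 3, 3, 3, (-1)],
   [(-1), 1, 1, 3, 3, (-1), (-3), (-3), (-1), 1, (-1), 1, 1, 1, (-1), 1, 1, 1, 1, (-1), 1, 1, (-3), 1],
   [1, 3, (-1), 1, 1, 1, (-1), 3, 1, (-1), 1, (-1), 3, 3, 1, (-1), (-1), (-1), (-1), 1, 3, (-1), (-1), (-1)],
   [(-1), 1, 1, (-1), (-1), 3, 1, (-3), (-1), 1, (-1), (-3), 1, 1, (-1), 1, 1, 1, (-3), 3, 1, 1, 1, 1],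
   [(-1), 1, 1, 3, (-1), (-1), 1, 1, (-1), (-3), 3, (-3), (-3), 1, (-1), 1, 1, 1, 1, (-1), 1, 1, 1, 1],
   [(-1), 1, 1, (-1), 3, (-1), 1, 1, 3, 1, (-1), (-3), 1, (-3), (-1), 1, 1, (-3), 1, (-1), 1, 1, 1, 1],
   [(-1), 1, 1, (-1), (-1), 3, (-3), 1, 3, 1, (-1), 1, (-3), 1, (-1), 1, 1, 1, 1, (-1), 1, (-3), 1, 1],
   [1, (-1), (-1), 1, 1, 1, (-1), (-1), 1, (-1), 1, (-1), 3, (-1), 1, (-1), 3, 3, 3, 1, (-1), (-1), 3, (-1)],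
   [(-1), 1, (-3), (-1), 3, (-1), 1, 1, (-1), 1, (-1), 1, (-3), 1, (-1), (-3), 1, 1, 1, 3, 1, 1, 1, 1],
   [(-1), 1, (-3), (-1), (-1), (-1), 1, (-3), 3, 1, 3, 1, 1, 1, (-1), 1, (-3), 1, 1, (-1), 1, 1, 1, 1],
   [(-1), 1, 1, 3, (-1), (-1), 1, 1, 3, 1, (-1), 1, 1, 1, (-1), (-3), 1, 1, (-3), (-1), (-3), 1, 1, 1],
   [(-1), 1, 1, 3, (-1), (-1), 1, 1, (-1), 1, (-1), 1, 1, (-3), (-1), 1, (-3), 1, 1, 3, 1, (-3), 1, 1],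
   [3, 1, 1, (-1), (-1), (-1), 1, 1, (-1), 1, (-1), 1, 1, 1, 3, 1, 1, 1, 1, (-1), 1, 1, 1, 5]]

/-- Sylow generator 4. -/
def sylMat4 : List (List ℤ) :=
  [
   [6, (-2), 0, 0, 2, 0, 0, 0, 0, 0, (-2), 0, 0, 0, (-2), 0, 0, 0, (-2), 0, 0, (-2), 0, 2],
   [0, 0, 2, (-2), 0, 2, 2, (-2), 2, (-2), 0, 2, (-2), 2, 0, (-2), 2, 2, 0, 2, (-2), 0, 2, 0],
   [(-2), (-2), 0, 0, 2, 0, 0, 0, 0, 0, (-2), 0, 0, 0, (-2), 0, 0, 0, 6, 0, 0, (-2), 0, 2],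
   [0, 0, (-2), 2, 0, 2, (-2), (-2), (-2), 2, 0, 2, (-2), (-2), 0, 2, 2, 2, 0, 2, 2, 0, 2, 0],
   [2, 2, 0, 0, 6, 0, 0, 0, 0, 0, 2, 0, 0, 0, 2, 0, 0, 0, 2, 0, 0, 2, 0, (-2)],
   [(-2), (-2), 0, 0, 2, 0, 0, 0, 0, 0, (-2), 0, 0, 0, 6, 0, 0, 0, (-2), 0, 0, (-2), 0, 2],
   [(-2), 6, 0, 0, 2, 0, 0, 0, 0, 0, (-2), 0, 0, 0, (-2), 0, 0, 0, (-2), 0, 0, (-2), 0, 2],
   [0, 0, 2, 2, 0, (-2), (-2), 2, 2, 2, 0, 2, (-2), 2, 0, (-2), (-2), 2, 0, 2, 2, 0, (-2), 0],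
   [0, 0, (-2), (-2), 0, (-2), 2, (-2), 2, 2, 0, 2, 2, 2, 0, 2, (-2), 2, 0, (-2), 2, 0, 2, 0],
   [0, 0, 2, (-2), 0, (-2), (-2), 2, (-2), 2, 0, 2, 2, 2, 0, 2, 2, (-2), 0, 2, (-2), 0, 2, 0],
   [(-2), (-2), 0, 0, 2, 0, 0, 0, 0, 0, 6, 0, 0, 0, (-2), 0, 0, 0, (-2), 0, 0, (-2), 0, 2],
   [(-2), (-2), 0, 0, 2, 0, 0, 0, 0, 0, (-2), 0, 0, 0, (-2), 0, 0, 0, (-2), 0, 0, 6, 0, 2],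
   [0, 0, 2, 2, 0, 2, (-2), (-2), 2, 2, 0, (-2), 2, 2, 0, (-2), 2, (-2), 0, (-2), 2, 0, 2, 0],
   [0, 0, (-2), (-2), 0, 2, 2, 2, 2, 2, 0, (-2), (-2), 2, 0, 2, 2, (-2), 0, 2, 2, 0, (-2), 0],
   [0, 0, 2, 2, 0, 2, 2, (-2), (-2), (-2), 0, 2, 2, 2, 0, 2, (-2), (-2), 0, 2, 2, 0, (-2), 0],
   [0, 0, (-2), 2, 0, 2, (-2), 2, 2, (-2), 0, 2, 2, 2, 0, 2, 2, 2, 0, (-2), (-2), 0, (-2), 0],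
   [0, 0, 2, 2, 0, (-2), 2, (-2), 2, 2, 0, (-2), 2, (-2), 0, 2, 2, 2, 0, 2, (-2), 0, (-2), 0],
   [0, 0, 2, 2, 0, (-2), 2, 2, (-2), (-2), 0, (-2), (-2), 2, 0, 2, 2, 2, 0, (-2), 2, 0, 2, 0],
   [0, 0, 2, (-2), 0, 2, 2, 2, (-2), 2, 0, 2, 2, (-2), 0, (-2), 2, 2, 0, (-2), 2, 0, (-2), 0],
   [0, 0, (-2), 2, 0, 2, 2, 2, (-2), 2, 0, (-2), 2, 2, 0, (-2), (-2), 2, 0, 2, (-2), 0, 2, 0],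
   [0, 0, 2, (-2), 0, 2, (-2), 2, 2, (-2), 0, (-2), 2, (-2), 0, 2, (-2), 2, 0, 2, 2, 0, 2, 0],
   [0, 0, 2, 2, 0, 2, 2, 2, 2, 2, 0, 2, (-2), (-2), 0, 2, (-2), (-2), 0, (-2), (-2), 0, 2, 0],
   [0, 0, (-2), 2, 0, (-2), 2, 2, 2, (-2), 0, 2, 2, (-2), 0, (-2), 2, (-2), 0, 2, 2, 0, 2, 0],
   [2, 2, 0, 0, (-2), 0, 0, 0, 0, 0, 2, 0, 0, 0, 2, 0, 0, 0, 2, 0, 0, 2, 0, 6]]

/-- Sylow generator 5. -/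
def sylMat5 : List (List ℤ) :=
  [
   [8, 0, 0, 0, 0, 0, 0, 0, 0, 0, 0, 0, 0, 0, 0, 0, 0, 0, 0, 0, 0, 0, 0, 0],
   [0, 8, 0, 0, 0, 0, 0, 0, 0, 0, 0, 0, 0, 0, 0, 0, 0, 0, 0, 0, 0, 0, 0, 0],
   [0, 0, 0, 0, 0, 0, 0, 0, 0, 0, 0, 0, 0, 0, 0, 0, 0, 8, 0, 0, 0, 0, 0, 0],
   [0, 0, 8, 0, 0, 0, 0, 0, 0, 0, 0, 0, 0, 0, 0, 0, 0, 0, 0, 0, 0, 0, 0, 0],
   [0, 0, 0, 0, 0, 0, 0, 0, 0, 0, 0, 0, 0, 8, 0, 0, 0, 0, 0, 0, 0, 0, 0, 0],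
   [0, 0, 0, 0, 0, 8, 0, 0, 0, 0, 0, 0, 0, 0, 0, 0, 0, 0, 0, 0, 0, 0, 0, 0],
   [0, 0, 0, 0, 0, 0, 8, 0, 0, 0, 0, 0, 0, 0, 0, 0, 0, 0, 0, 0, 0, 0, 0, 0],
   [0, 0, 0, 0, 0, 0, 0, 0, 0, 8, 0, 0, 0, 0, 0, 0, 0, 0, 0, 0, 0, 0, 0, 0],
   [0, 0, 0, 0, 0, 0, 0, 0, 0, 0, 0, 0, 0, 0, 0, 0, 0, 0, 0, 0, 0, 8, 0, 0],
   [0, 0, 0, 0, 0, 0, 0, 0, 0, 0, 8, 0, 0, 0, 0, 0, 0, 0, 0, 0, 0, 0, 0, 0],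
   [0, 0, 0, 0, 0, 0, 0, 8, 0, 0, 0, 0, 0, 0, 0, 0, 0, 0, 0, 0, 0, 0, 0, 0],
   [0, 0, 0, 0, 0, 0, 0, 0, 0, 0, 0, 0, 0, 0, 0, 0, 8, 0, 0, 0, 0, 0, 0, 0],
   [0, 0, 0, 0, 0, 0, 0, 0, 8, 0, 0, 0, 0, 0, 0, 0, 0, 0, 0, 0, 0, 0, 0, 0],
   [0, 0, 0, 0, 0, 0, 0, 0, 0, 0, 0, 0, 0, 0, 0, 0, 0, 0, 0, 8, 0, 0, 0, 0],
   [0, 0, 0, 0, 0, 0, 0, 0, 0, 0, 0, 0, 0, 0, 8, 0, 0, 0, 0, 0, 0, 0, 0, 0],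
   [0, 0, 0, 0, 0, 0, 0, 0, 0, 0, 0, 8, 0, 0, 0, 0, 0, 0, 0, 0, 0, 0, 0, 0],
   [0, 0, 0, 0, 0, 0, 0, 0, 0, 0, 0, 0, 0, 0, 0, 8, 0, 0, 0, 0, 0, 0, 0, 0],
   [0, 0, 0, 8, 0, 0, 0, 0, 0, 0, 0, 0, 0, 0, 0, 0, 0, 0, 0, 0, 0, 0, 0, 0],
   [0, 0, 0, 0, 0, 0, 0, 0, 0, 0, 0, 0, 0, 0, 0, 0, 0, 0, 0, 0, 8, 0, 0, 0],
   [0, 0, 0, 0, 8, 0, 0, 0, 0, 0, 0, 0, 0, 0, 0, 0, 0, 0, 0, 0, 0, 0, 0, 0],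
   [0, 0, 0, 0, 0, 0, 0, 0, 0, 0, 0, 0, 0, 0, 0, 0, 0, 0, 0, 0, 0, 0, 8, 0],
   [0, 0, 0, 0, 0, 0, 0, 0, 0, 0, 0, 0, 8, 0, 0, 0, 0, 0, 0, 0, 0, 0, 0, 0],
   [0, 0, 0, 0, 0, 0, 0, 0, 0, 0, 0, 0, 0, 0, 0, 0, 0, 0, 8, 0, 0, 0, 0, 0],
   [0, 0, 0, 0, 0, 0, 0, 0, 0, 0, 0, 0, 0, 0, 0, 0, 0, 0, 0, 0, 0, 0, 0, 8]]

/-- Conjugating element 0. -/
def fusMat0 : List (List ℤ) :=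
  [
   [5, (-1), (-1), (-1), (-1), 1, (-1), (-1), (-3), (-1), (-1), (-1), 1, (-1), (-1), 1, (-1), (-1), 1, 1, (-1), (-1), 1, 3],
   [1, (-1), (-1), (-1), (-1), 1, 3, 3, 1, 3, (-1), 3, 1, (-1), (-1), 1, (-1), (-1), 1, 1, 3, (-1), 1, (-1)],
   [1, (-1), 3, (-1), (-1), 1, (-1), 3, 1, (-1), 3, (-1), 1, (-1), 3, 1, 3, (-1), 1, 1, (-1), (-1), 1, (-1)],
   [(-1), 1, 1, 1, 1, (-1), 1, 1, (-1), 1, (-3), (-3), (-1), 1, 1, 3, 1, 1, (-1), 3, 1, (-3), (-1), 1],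
   [1, (-1), 3, 3, 3, 1, (-1), (-1), 1, 3, (-1), (-1), 1, (-1), (-1), 1, (-1), (-1), 1, 1, (-1), 3, 1, (-1)],
   [(-1), (-3), 1, 1, 1, (-1), 1, 1, (-1), (-3), 1, 1, (-1), 1, (-3), (-1), 1, 1, (-1), 3, 1, 1, 3, 1],
   [(-1), 1, 1, 1, (-3), (-1), (-3), 1, (-1), 1, 1, 1, (-1), 1, 1, (-1), (-3), 1, 3, 3, 1, 1, (-1), 1],
   [(-1), 1, 1, 1, 1, 3, 1, 1, (-1), (-3), (-3), 1, (-1), 1, 1, (-1), 1, (-3), 3, (-1), 1, 1, (-1), 1],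
   [(-1), 1, 1, 1, 1, (-1), 1, 1, (-1), (-3), 1, 1, 3, (-3), 1, 3, (-3), 1, (-1), (-1), 1, 1, (-1), 1],
   [(-1), 1, 1, (-3), 1, (-1), 1, (-3), (-1), 1, 1, 1, 3, 1, 1, (-1), 1, (-3), (-1), 3, 1, 1, (-1), 1],
   [(-1), 1, 1, 1, 1, (-1), 1, (-3), (-1), 1, 1, 1, (-1), (-3), 1, (-1), 1, 1, 3, (-1), 1, (-3), 3, 1],
   [1, 3, (-1), 3, (-1), 1, 3, (-1), 1, (-1), 3, (-1), 1, 3, (-1), 1, (-1), (-1), 1, 1, (-1), (-1), 1, (-1)],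
   [(-1), (-3), (-3), 1, 1, (-1), 1, 1, (-1), 1, 1, (-3), 3, 1, 1, (-1), 1, 1, 3, (-1), 1, 1, (-1), 1],
   [(-1), 1, 1, 1, (-3), (-1), 1, 1, (-1), 1, (-3), 1, 3, 1, 1, (-1), 1, 1, (-1), (-1), (-3), 1, 3, 1],
   [(-1), 1, (-3), 1, 1, (-1), (-3), 1, (-1), 1, 1, 1, (-1), 1, 1, 3, 1, (-3), (-1), (-1), 1, 1, 3, 1],
   [(-3), (-1), (-1), (-1), (-1), 1, (-1), (-1), 5, (-1), (-1), (-1), 1, (-1), (-1), 1, (-1), (-1), 1, 1, (-1), (-1), 1, 3],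
   [(-1), 1, 1, 1, 1, 3, (-3), 1, (-1), 1, 1, 1, 3, 1, (-3), (-1), 1, 1, (-1), (-1), 1, (-3), (-1), 1],
   [1, 3, (-1), (-1), (-1), 1, (-1), (-1), 1, (-1), (-1), (-1), 1, (-1), (-1), 1, 3, 3, 1, 1, 3, 3, 1, (-1)],
   [(-1), 1, 1, (-3), 1, (-1), 1, 1, (-1), 1, 1, 1, (-1), 1, (-3), 3, 1, 1, 3, (-1), (-3), 1, (-1), 1],
   [(-1), 1, (-3), 1, 1, 3, 1, 1, (-1), 1, 1, 1, (-1), (-3), 1, (-1), 1, 1, (-1), 3, (-3), 1, (-1), 1],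
   [(-1), (-3), 1, 1, (-3), 3, 1, (-3), (-1), 1, 1, 1, (-1), 1, 1, 3, 1, 1, (-1), (-1), 1, 1, (-1), 1],
   [1, (-1), (-1), (-1), 3, 1, (-1), (-1), 1, (-1), (-1), 3, 1, 3, 3, 1, (-1), 3, 1, 1, (-1), (-1), 1, (-1)],
   [(-1), 1, 1, (-3), 1, 3, 1, 1, (-1), 1, 1, (-3), (-1), 1, 1, (-1), (-3), 1, (-1), (-1), 1, 1, 3, 1],
   [3, 1, 1, 1, 1, (-1), 1, 1, 3, 1, 1, 1, (-1), 1, 1, (-1), 1, 1, (-1), (-1), 1, 1, (-1), 5]]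

/-- Conjugating element 1. -/
def fusMat1 : List (List ℤ) :=
  [
   [6, 0, (-2), 0, 2, (-2), (-2), 0, 0, 0, (-2), (-2), 0, 0, 0, 0, 0, 0, 0, 0, 0, 0, 0, 2],
   [0, 2, 0, 2, 0, 0, 0, (-2), (-2), (-2), 0, 0, 2, 2, 2, 2, (-2), (-2), 2, 2, 2, 2, (-2), 0],
   [0, (-2), 0, 2, 0, 0, 0, 2, 2, (-2), 0, 0, 2, 2, 2, (-2), (-2), 2, 2, (-2), 2, (-2), 2, 0],
   [(-2), 0, 6, 0, 2, (-2), (-2), 0, 0, 0, (-2), (-2), 0, 0, 0, 0, 0, 0, 0, 0, 0, 0, 0, 2],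
   [0, 2, 0, (-2), 0, 0, 0, 2, 2, 2, 0, 0, 2, 2, 2, 2, (-2), 2, (-2), 2, (-2), (-2), (-2), 0],
   [(-2), 0, (-2), 0, 2, (-2), 6, 0, 0, 0, (-2), (-2), 0, 0, 0, 0, 0, 0, 0, 0, 0, 0, 0, 2],
   [(-2), 0, (-2), 0, 2, 6, (-2), 0, 0, 0, (-2), (-2), 0, 0, 0, 0, 0, 0, 0, 0, 0, 0, 0, 2],
   [0, (-2), 0, 2, 0, 0, 0, 2, 2, 2, 0, 0, 2, 2, (-2), (-2), 2, (-2), 2, 2, (-2), 2, (-2), 0],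
   [0, 2, 0, 2, 0, 0, 0, 2, 2, 2, 0, 0, (-2), (-2), 2, 2, (-2), (-2), 2, (-2), (-2), 2, 2, 0],
   [(-2), 0, (-2), 0, 2, (-2), (-2), 0, 0, 0, 6, (-2), 0, 0, 0, 0, 0, 0, 0, 0, 0, 0, 0, 2],
   [0, (-2), 0, (-2), 0, 0, 0, 2, (-2), 2, 0, 0, (-2), 2, (-2), 2, (-2), 2, 2, 2, 2, 2, 2, 0],
   [0, (-2), 0, (-2), 0, 0, 0, (-2), 2, 2, 0, 0, 2, (-2), 2, 2, 2, (-2), 2, 2, 2, (-2), 2, 0],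
   [0, (-2), 0, 2, 0, 0, 0, (-2), 2, 2, 0, 0, (-2), 2, 2, 2, 2, 2, (-2), (-2), 2, 2, (-2), 0],
   [0, 2, 0, 2, 0, 0, 0, 2, (-2), 2, 0, 0, (-2), 2, 2, (-2), 2, (-2), (-2), 2, 2, (-2), 2, 0],
   [0, 2, 0, (-2), 0, 0, 0, (-2), 2, (-2), 0, 0, (-2), 2, 2, (-2), 2, 2, 2, 2, (-2), 2, 2, 0],
   [(-2), 0, (-2), 0, 2, (-2), (-2), 0, 0, 0, (-2), 6, 0, 0, 0, 0, 0, 0, 0, 0, 0, 0, 0, 2],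
   [0, 2, 0, (-2), 0, 0, 0, 2, 2, (-2), 0, 0, 2, 2, (-2), 2, 2, (-2), (-2), (-2), 2, 2, 2, 0],
   [0, 2, 0, 2, 0, 0, 0, (-2), 2, 2, 0, 0, 2, (-2), (-2), (-2), (-2), 2, (-2), 2, 2, 2, 2, 0],
   [0, 2, 0, 2, 0, 0, 0, 2, 2, (-2), 0, 0, (-2), (-2), (-2), 2, 2, 2, 2, 2, 2, (-2), (-2), 0],
   [2, 0, 2, 0, 6, 2, 2, 0, 0, 0, 2, 2, 0, 0, 0, 0, 0, 0, 0, 0, 0, 0, 0, (-2)],
   [0, (-2), 0, 2, 0, 0, 0, 2, (-2), (-2), 0, 0, 2, (-2), 2, 2, 2, 2, (-2), 2, (-2), 2, 2, 0],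
   [0, 2, 0, 2, 0, 0, 0, (-2), (-2), 2, 0, 0, 2, 2, (-2), 2, 2, 2, 2, (-2), (-2), (-2), 2, 0],
   [0, 2, 0, (-2), 0, 0, 0, 2, (-2), 2, 0, 0, 2, (-2), 2, (-2), 2, 2, 2, (-2), 2, 2, (-2), 0],
   [2, 0, 2, 0, (-2), 2, 2, 0, 0, 0, 2, 2, 0, 0, 0, 0, 0, 0, 0, 0, 0, 0, 0, 6]]

/-- Conjugating element 2. -/
def fusMat2 : List (List ℤ) :=
  [
   [3, (-1), (-1), (-1), 1, 3, 1, (-1), 1, (-1), (-1), 1, 1, 1, 1, 1, 1, (-1), (-1), 1, (-1), 1, (-1), 5],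
   [1, (-3), 1, 1, (-1), 1, 3, 1, (-1), 1, 1, (-1), (-1), (-1), (-1), (-1), (-1), 1, (-3), (-1), (-3), (-1), (-3), (-1)],
   [1, (-3), 1, 1, 3, 1, (-1), (-3), 3, 1, 1, (-1), (-1), (-1), (-1), 3, (-1), 1, 1, (-1), 1, (-1), 1, (-1)],
   [1, (-3), 1, 1, (-1), 1, (-1), 1, (-1), 1, (-3), (-1), 3, (-1), (-1), (-1), 3, 1, 1, 3, 1, (-1), 1, (-1)],
   [1, 1, (-3), 1, (-1), 1, (-1), (-3), (-1), (-3), 1, (-1), 3, (-1), (-1), (-1), (-1), 1, 1, (-1), 1, (-1), (-3), (-1)],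
   [1, (-3), (-3), (-3), (-1), 1, (-1), 1, (-1), 1, 1, (-1), (-1), (-1), 3, (-1), (-1), (-3), 1, (-1), 1, (-1), 1, (-1)],
   [(-1), (-1), (-1), (-1), 1, (-1), (-3), (-1), (-3), (-1), (-1), 1, (-3), 1, (-3), 1, 1, (-1), (-1), 1, (-1), (-3), (-1), 1],
   [(-1), (-1), (-1), 3, (-3), (-1), 1, (-1), 1, (-1), (-1), 1, (-3), (-3), 1, 1, 1, (-1), 3, 1, (-1), 1, (-1), 1],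
   [(-1), (-1), (-1), (-1), (-3), (-1), 1, (-1), 1, 3, (-1), 1, 1, 1, (-3), 1, (-3), (-1), (-1), 1, 3, 1, (-1), 1],
   [(-1), (-1), 3, (-1), 1, (-1), 1, (-1), (-3), (-1), (-1), 1, 1, (-3), 1, 1, 1, (-1), (-1), (-3), 3, 1, (-1), 1],
   [(-1), (-1), (-1), (-1), (-3), (-1), 1, (-1), 1, (-1), (-1), 1, 1, 1, 1, 1, 1, 3, (-1), (-3), (-1), (-3), 3, 1],
   [(-1), (-1), (-1), 3, 1, (-1), (-3), (-1), 1, 3, (-1), 1, 1, 1, 1, (-3), 1, (-1), (-1), (-3), (-1), 1, (-1), 1],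
   [(-1), (-1), (-1), (-1), 1, (-1), 1, 3, 1, (-1), (-1), (-3), 1, 1, (-3), 1, 1, (-1), 3, (-3), (-1), 1, (-1), 1],
   [1, 1, 1, 1, (-1), 1, (-1), 1, 3, (-3), (-3), (-1), (-1), (-1), (-1), (-1), (-1), (-3), (-3), (-1), 1, (-1), 1, (-1)],
   [3, (-1), (-1), (-1), 1, (-5), 1, (-1), 1, (-1), (-1), 1, 1, 1, 1, 1, 1, (-1), (-1), 1, (-1), 1, (-1), (-3)],
   [(-1), (-1), (-1), (-1), 1, (-1), (-3), 3, 1, (-1), (-1), 1, 1, (-3), 1, 1, (-3), 3, (-1), 1, (-1), 1, (-1), 1],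
   [(-1), (-1), 3, (-1), (-3), (-1), (-3), (-1), 1, (-1), 3, (-3), 1, 1, 1, 1, 1, (-1), (-1), 1, (-1), 1, (-1), 1],
   [1, (-3), 1, 1, (-1), 1, (-1), 1, (-1), (-3), 1, 3, (-1), 3, (-1), (-1), (-1), 1, 1, (-1), 1, 3, 1, (-1)],
   [1, 1, 1, (-3), (-1), 1, (-1), 1, 3, 1, 1, 3, (-1), (-1), (-1), (-1), 3, 1, 1, (-1), 1, (-1), (-3), (-1)],
   [1, 1, 1, (-3), (-1), 1, (-1), (-3), (-1), 1, (-3), (-1), (-1), (-1), (-1), (-1), (-1), 1, 1, (-1), (-3), 3, 1, (-1)],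
   [1, 1, (-3), 1, (-1), 1, (-1), 1, (-1), 1, 1, (-1), (-1), (-1), (-1), 3, 3, 1, (-3), (-1), 1, 3, 1, (-1)],
   [(-1), (-1), (-1), (-1), 1, (-1), 1, (-1), 1, (-1), 3, 1, 1, (-3), (-3), (-3), 1, (-1), (-1), 1, (-1), 1, 3, 1],
   [1, 1, 1, 1, (-1), 1, (-1), 1, (-1), 1, 1, 3, 3, (-1), (-1), 3, (-1), (-3), 1, (-1), (-3), (-1), 1, (-1)],
   [5, 1, 1, 1, (-1), (-3), (-1), 1, (-1), 1, 1, (-1), (-1), (-1), (-1), (-1), (-1), 1, 1, (-1), 1, (-1), 1, 3]]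

/-- The Sylow generators. -/
def sylMats : List (List (List ℤ)) := [sylMat0, sylMat1, sylMat2, sylMat3, sylMat4, sylMat5]

/-- The conjugating elements. -/
def fusMats : List (List (List ℤ)) := [fusMat0, fusMat1, fusMat2]

/-- Relations. -/
def threeRels : List Rel :=
  [Rel.assoc [4] [3] [3, 3],
   Rel.assoc [5] [1] [1, 1],
   Rel.assoc [5] [3] [1],
   Rel.fuse 0 [0, 0, 0] [],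
   Rel.fuse 0 [1, 1, 1] [],
   Rel.fuse 0 [2, 2, 2] [],
   Rel.fuse 0 [3, 3, 3] [],
   Rel.fuse 0 [2, 0] [0, 2, 4],
   Rel.fuse 0 [3, 0] [0, 3, 4, 4],
   Rel.fuse 0 [3, 2] [2, 3, 4, 4],
   Rel.fuse 0 [4, 2] [2, 4],
   Rel.fuse 0 [4, 3] [3, 4],
   Rel.fuse 1 [0, 0, 0] [],
   Rel.fuse 1 [1, 1, 1] [],
   Rel.fuse 1 [2, 2, 2] [],
   Rel.fuse 1 [3, 3, 3] [],
   Rel.fuse 1 [4, 4, 4] [],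
   Rel.fuse 1 [5, 5, 5] [],
   Rel.fuse 1 [1, 0] [0, 1, 3, 4, 4],
   Rel.fuse 1 [2, 0] [0, 2, 4, 4],
   Rel.fuse 1 [4, 0] [0, 4],
   Rel.fuse 1 [4, 2] [2, 4, 5],
   Rel.fuse 1 [5, 3] [3, 5],
   Rel.fuse 1 [5, 4] [4, 5],
   Rel.fuse 2 [0, 0, 0] [],
   Rel.fuse 2 [1, 1, 1] [],
   Rel.fuse 2 [2, 2, 2] [],
   Rel.fuse 2 [4, 4, 4] [],
   Rel.fuse 2 [1, 0] [0, 1, 3, 4, 4],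
   Rel.fuse 2 [2, 0] [0, 2, 4, 4],
   Rel.fuse 2 [3, 0] [0, 3],
   Rel.fuse 2 [3, 2] [2, 3, 5],
   Rel.fuse 2 [4, 1] [1, 4],
   Rel.fuse 2 [4, 2] [2, 4, 5],
   Rel.fuse 2 [4, 3] [3, 4]]

/-- Rows. -/
def threeRows : List (ℕ × List ℤ × List (ℕ × ℤ)) :=
  [(37, [0, 0, 0, 0, 0, 0, 0, 0, 0, 0, 0, 0, 0, 0, 0, 0, 0, 0, 0, 0, 0, 0, 0, 0, 0, 0, 0, 0, 0, 0, 0, 0, 0, 0, 0, 0, 0, 1], [(23, 1), (33, (-1))]),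
   (36, [0, 0, 0, 0, 0, 0, 0, 0, 0, 0, 0, 0, 0, 0, 0, 0, 0, 0, 0, 0, 0, 0, 0, 0, 0, 0, 0, 0, 0, 0, 0, 0, 0, 0, 0, 0, 1, 0], [(20, (-2)), (22, 2), (23, 8), (27, 1), (29, 1), (34, 4)]),
   (35, [2, 1, 1, 0, 0, 0, 0, 0, 0, 0, 1, 0, 0, 0, 0, 0, 0, 0, 0, 0, 1, 0, 0, 0, 0, 0, 0, 0, 0, 0, 0, 0, 0, 0, 0, 1, 0, 0], [(0, (-2)), (1, 1), (2, (-1)), (7, 8), (8, (-5)), (9, 1), (10, (-34)), (11, 22), (17, (-1)), (20, 3), (21, (-3)), (22, 9), (23, 10), (27, (-2)), (28, (-1)), (29, (-2)), (30, 3), (31, 3), (32, 10), (33, (-3)), (34, (-7))]),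
   (34, [2, 2, 0, 0, 0, 0, 0, 0, 0, 0, 0, 0, 0, 0, 0, 0, 0, 0, 0, 0, 0, 0, 0, 0, 0, 0, 0, 0, 0, 0, 0, 0, 0, 0, 3, 0, 0, 0], [(0, (-4)), (1, 2), (2, (-3)), (7, 6), (9, (-3)), (10, (-29)), (11, 18), (20, 6), (23, (-8)), (26, 1), (31, 6), (32, 6), (33, (-6))]),
   (33, [1, 0, 2, 0, 1, 0, 0, 0, 0, 0, 0, 0, 0, 0, 0, 0, 0, 0, 0, 0, 0, 0, 0, 0, 0, 0, 0, 0, 0, 0, 0, 0, 0, 3, 0, 0, 0, 0], [(0, 4), (8, (-6)), (9, 6), (10, 1), (11, (-7)), (22, 4), (25, 1), (31, (-6)), (32, (-6)), (33, 6), (34, (-12))]),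
   (32, [0, 0, 0, 0, 0, 0, 0, 0, 0, 0, 0, 0, 0, 0, 0, 0, 0, 0, 0, 0, 0, 0, 0, 0, 0, 0, 0, 0, 0, 0, 0, 0, 3, 0, 0, 0, 0, 0], [(24, 1)]),
   (31, [0, 0, 0, 0, 0, 0, 0, 0, 0, 0, 0, 0, 0, 0, 0, 0, 0, 0, 0, 0, 0, 0, 0, 0, 0, 0, 0, 0, 0, 0, 0, 1, 0, 0, 0, 0, 0, 0], [(0, 4), (1, (-2)), (2, 3), (7, (-6)), (9, 3), (10, 25), (11, (-18)), (17, 1), (20, (-6)), (21, 2), (23, 14), (31, (-6)), (32, (-6)), (33, 6)]),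
   (30, [3, 1, 0, 0, 0, 0, 0, 0, 0, 0, 2, 0, 0, 0, 0, 0, 0, 0, 0, 2, 0, 0, 0, 0, 0, 0, 0, 0, 0, 0, 1, 0, 0, 0, 0, 0, 0, 0], [(0, 4), (1, (-2)), (2, 2), (7, (-6)), (9, 3), (10, 17), (11, (-18)), (16, (-1)), (17, 2), (19, (-2)), (20, 2), (21, 6), (22, 38), (23, (-9)), (31, (-10)), (32, (-6)), (33, 10), (34, (-16))]),
   (29, [4, 1, 1, 0, 0, 0, 0, 0, 0, 0, 2, 0, 0, 0, 0, 0, 0, 0, 0, 2, 1, 0, 0, 0, 0, 0, 0, 0, 0, 1, 0, 0, 0, 0, 0, 0, 0, 0], [(0, 6), (1, (-2)), (2, 2), (7, (-6)), (8, (-3)), (9, 6), (10, 11), (11, (-15)), (16, (-2)), (17, 2), (18, (-1)), (19, (-2)), (20, 2), (21, 6), (22, 45), (23, 4), (30, 2), (31, (-13)), (32, (-6)), (33, 13), (34, (-17))]),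
   (28, [1, 2, 0, 1, 0, 0, 0, 0, 0, 0, 0, 0, 0, 0, 0, 0, 0, 0, 0, 0, 0, 0, 0, 0, 0, 0, 0, 0, 3, 0, 0, 0, 0, 0, 0, 0, 0, 0], [(0, (-4)), (1, 2), (2, (-3)), (7, 6), (9, (-3)), (10, (-32)), (11, 18), (14, 1), (20, 6), (23, (-13)), (31, 6), (32, 6), (33, (-6))]),
   (27, [0, 2, 1, 0, 1, 0, 0, 0, 0, 0, 0, 0, 0, 0, 0, 0, 0, 0, 0, 0, 0, 0, 0, 0, 0, 0, 0, 3, 0, 0, 0, 0, 0, 0, 0, 0, 0, 0], [(0, 2), (8, (-3)), (9, 3), (10, 2), (11, (-5)), (13, 1), (22, 1), (23, (-4)), (31, (-3)), (32, 3), (33, 3), (34, (-12))]),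
   (26, [1, 2, 1, 0, 0, 0, 0, 0, 0, 0, 0, 0, 0, 0, 0, 0, 0, 0, 0, 0, 0, 0, 0, 0, 0, 0, 3, 0, 0, 0, 0, 0, 0, 0, 0, 0, 0, 0], [(1, 1), (2, (-3)), (12, 1), (20, 3), (23, 3), (30, 3)]),
   (25, [0, 0, 0, 0, 0, 0, 0, 0, 0, 0, 0, 0, 0, 0, 0, 0, 0, 0, 0, 0, 0, 0, 0, 0, 0, 1, 0, 0, 0, 0, 0, 0, 0, 0, 0, 0, 0, 0], [(0, 6), (1, (-2)), (2, 3), (7, (-9)), (9, 4), (10, 35), (11, (-26)), (17, 1), (20, (-6)), (21, 3), (22, (-3)), (23, 9), (31, (-9)), (32, (-9)), (33, 9), (34, (-6))]),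
   (24, [2, 0, 0, 1, 1, 0, 0, 0, 0, 0, 0, 0, 0, 0, 0, 0, 0, 0, 0, 0, 0, 0, 0, 0, 3, 0, 0, 0, 0, 0, 0, 0, 0, 0, 0, 0, 0, 0], [(0, (-2)), (6, 1), (11, 8)]),
   (23, [2, 0, 0, 1, 0, 0, 0, 0, 0, 0, 0, 0, 0, 0, 0, 0, 0, 0, 0, 0, 0, 0, 0, 3, 0, 0, 0, 0, 0, 0, 0, 0, 0, 0, 0, 0, 0, 0], [(0, (-1)), (5, 1), (10, 1), (11, 7)]),
   (22, [0, 1, 1, 0, 1, 0, 0, 0, 0, 0, 0, 0, 0, 0, 0, 0, 0, 0, 0, 0, 0, 0, 3, 0, 0, 0, 0, 0, 0, 0, 0, 0, 0, 0, 0, 0, 0, 0], [(0, 2), (4, 1), (8, (-3)), (9, 3), (10, 2), (11, (-5)), (22, 2), (23, (-5)), (31, (-3)), (32, 3), (33, 3), (34, (-12))]),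
   (21, [2, 1, 0, 2, 0, 0, 0, 0, 0, 0, 0, 0, 0, 0, 0, 0, 0, 0, 0, 0, 0, 3, 0, 0, 0, 0, 0, 0, 0, 0, 0, 0, 0, 0, 0, 0, 0, 0], [(0, (-4)), (1, 2), (2, (-3)), (3, 1), (7, 6), (9, (-3)), (10, (-14)), (11, 18), (17, (-1)), (20, 12), (21, (-3)), (22, 19), (23, (-2)), (27, (-2)), (29, (-3)), (31, 9), (32, 6), (33, (-9)), (34, 3)]),
   (20, [2, 1, 2, 0, 0, 0, 0, 0, 0, 0, 0, 0, 0, 0, 0, 0, 0, 0, 0, 0, 3, 0, 0, 0, 0, 0, 0, 0, 0, 0, 0, 0, 0, 0, 0, 0, 0, 0], [(0, 6), (1, 2), (2, (-3)), (8, (-9)), (9, 9), (10, (-18)), (11, 9), (15, (-1)), (16, (-2)), (18, (-3)), (20, 6), (22, 9), (23, 18), (30, 6), (31, (-9)), (33, 9), (34, (-15))]),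
   (19, [2, 1, 0, 0, 0, 0, 0, 0, 0, 0, 0, 0, 0, 0, 0, 0, 0, 0, 0, 3, 0, 0, 0, 0, 0, 0, 0, 0, 0, 0, 0, 0, 0, 0, 0, 0, 0, 0], [(0, 4), (1, (-1)), (7, (-6)), (9, 3), (10, 6), (11, (-18)), (16, (-2)), (17, 3), (19, (-3)), (20, 3), (21, 9), (22, 60), (23, (-18)), (27, 2), (29, 3), (31, (-12)), (32, (-6)), (33, 12), (34, (-18))]),
   (18, [0, 0, 0, 0, 0, 0, 0, 0, 0, 0, 0, 0, 0, 0, 0, 0, 0, 0, 1, 0, 0, 0, 0, 0, 0, 0, 0, 0, 0, 0, 0, 0, 0, 0, 0, 0, 0, 0], [(20, 2), (22, (-2)), (23, (-8)), (30, (-1)), (34, (-4))]),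
   (17, [0, 0, 0, 0, 0, 0, 0, 0, 0, 0, 0, 0, 0, 0, 0, 0, 0, 1, 0, 0, 0, 0, 0, 0, 0, 0, 0, 0, 0, 0, 0, 0, 0, 0, 0, 0, 0, 0], [(1, 1), (2, (-1)), (20, 2), (22, (-2)), (23, (-8)), (34, (-4))]),
   (16, [0, 0, 0, 0, 0, 0, 0, 0, 0, 0, 0, 0, 0, 0, 0, 0, 1, 0, 0, 0, 0, 0, 0, 0, 0, 0, 0, 0, 0, 0, 0, 0, 0, 0, 0, 0, 0, 0], [(1, (-1)), (2, 1), (20, (-3)), (22, 3), (23, 12), (34, 6)]),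
   (15, [1, 0, 0, 0, 0, 0, 0, 0, 0, 0, 1, 0, 0, 0, 0, 1, 0, 0, 0, 0, 0, 0, 0, 0, 0, 0, 0, 0, 0, 0, 0, 0, 0, 0, 0, 0, 0, 0], [(0, (-5)), (1, 2), (2, (-3)), (7, 8), (9, (-4)), (10, (-30)), (11, 24), (17, (-1)), (20, 6), (21, (-3)), (22, 2), (23, (-8)), (31, 8), (32, 8), (33, (-8)), (34, 4)]),
   (14, [1, 0, 0, 0, 0, 0, 0, 0, 0, 0, 1, 0, 0, 0, 1, 0, 0, 0, 0, 0, 0, 0, 0, 0, 0, 0, 0, 0, 0, 0, 0, 0, 0, 0, 0, 0, 0, 0], [(0, (-6)), (7, 8), (8, 1), (9, (-5)), (10, (-32)), (11, 26), (17, (-1)), (20, 6), (21, (-3)), (22, 3), (23, (-8)), (27, (-2)), (29, (-3)), (31, 9), (32, 9), (33, (-9)), (34, 6)]),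
   (13, [0, 0, 0, 0, 0, 0, 0, 0, 0, 0, 0, 0, 0, 1, 0, 0, 0, 0, 0, 0, 0, 0, 0, 0, 0, 0, 0, 0, 0, 0, 0, 0, 0, 0, 0, 0, 0, 0], [(23, 3), (32, (-1)), (34, 2)]),
   (12, [0, 0, 0, 0, 0, 0, 0, 0, 0, 0, 0, 0, 1, 0, 0, 0, 0, 0, 0, 0, 0, 0, 0, 0, 0, 0, 0, 0, 0, 0, 0, 0, 0, 0, 0, 0, 0, 0], [(10, 1), (11, (-1))]),
   (11, [2, 0, 0, 0, 0, 0, 0, 0, 0, 0, 2, 1, 0, 0, 0, 0, 0, 0, 0, 0, 0, 0, 0, 0, 0, 0, 0, 0, 0, 0, 0, 0, 0, 0, 0, 0, 0, 0], [(10, 2), (22, (-1)), (31, (-1)), (33, 1), (34, (-4))]),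
   (10, [2, 0, 0, 0, 0, 0, 0, 0, 0, 0, 3, 0, 0, 0, 0, 0, 0, 0, 0, 0, 0, 0, 0, 0, 0, 0, 0, 0, 0, 0, 0, 0, 0, 0, 0, 0, 0, 0], [(0, (-4)), (1, 2), (2, (-3)), (7, 6), (9, (-3)), (10, (-18)), (11, 18), (17, (-1)), (20, 6), (21, (-3)), (23, (-6)), (31, 6), (32, 6), (33, (-6))]),
   (9, [0, 0, 0, 0, 0, 0, 0, 0, 0, 1, 0, 0, 0, 0, 0, 0, 0, 0, 0, 0, 0, 0, 0, 0, 0, 0, 0, 0, 0, 0, 0, 0, 0, 0, 0, 0, 0, 0], [(10, (-1))]),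
   (8, [0, 0, 0, 0, 0, 0, 0, 0, 1, 0, 0, 0, 0, 0, 0, 0, 0, 0, 0, 0, 0, 0, 0, 0, 0, 0, 0, 0, 0, 0, 0, 0, 0, 0, 0, 0, 0, 0], [(23, (-2)), (34, (-1))]),
   (7, [0, 0, 0, 0, 0, 0, 0, 1, 0, 0, 0, 0, 0, 0, 0, 0, 0, 0, 0, 0, 0, 0, 0, 0, 0, 0, 0, 0, 0, 0, 0, 0, 0, 0, 0, 0, 0, 0], [(22, (-1))]),
   (6, [0, 0, 0, 0, 0, 0, 1, 0, 0, 0, 0, 0, 0, 0, 0, 0, 0, 0, 0, 0, 0, 0, 0, 0, 0, 0, 0, 0, 0, 0, 0, 0, 0, 0, 0, 0, 0, 0], [(23, (-1))])]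

/-- The certificate. -/
def threeData : SchurData where
  p := 3
  a := List.replicate 6 (0, 0)
  derived := []
  levels := []
  pow := [[], [], [], [], [], []]
  comm := [[], [[0, 1]], [[0, 2], [1, 2]], [[0, 3], [0, 0, 1, 3], [0, 0, 2, 3]], [[0, 4], [1, 4], [0, 2, 4], [0, 3, 4]], [[0, 5], [1, 5], [2, 5], [0, 0, 1, 3, 5], [0, 0, 1, 2, 2, 4, 5]]]
  ords := [3, 3, 3, 3, 3, 3]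
  fus := [⟨(0, 0), [[2], [1], [4], [3], [0]], [[0, 0, 1, 2, 3, 3], [1, 1, 2, 4], [0, 0, 3, 4], [0, 0, 3, 3, 4], [0]]⟩,
   ⟨(0, 0), [[5], [4], [3], [2], [1], [0]], [[0, 1, 1, 2, 5], [1, 1, 2, 4, 4], [0, 1, 1, 3, 3], [0, 0, 2, 2], [0, 1, 1], [0]]⟩,
   ⟨(0, 0), [[5], [4], [3], [2], [1], [0]], [[5], [0, 2, 2, 4, 4], [0, 0, 1, 1, 3], [0, 0, 1, 1, 2, 2], [1], [0]]⟩]
  nv := 38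
  rels := threeRels
  rows := threeRows
  gs := [([0, 0], [0, 0, 0, 0, 0, 0, 0, 0, 0, 0, 1, 0, 0, 0, 0, 0, 0, 0, 0, 0, 0, 0, 0, 0, 0, 0, 0, 0, 0, 0, 0, 0, 0, 0, 0, 0, 0, 0]),
   ([0, 0, 1], [0, 0, 0, 0, 0, 0, 0, 0, 0, 0, 0, 0, 0, 0, 0, 0, 0, 0, 0, 1, 0, 0, 0, 0, 0, 0, 0, 0, 0, 0, 0, 0, 0, 0, 0, 0, 0, 0]),
   ([0, 0, 1, 2, 2], [0, 0, 0, 0, 0, 0, 0, 0, 0, 0, 0, 0, 0, 0, 0, 0, 0, 0, 0, 0, 1, 0, 0, 0, 0, 0, 0, 0, 0, 0, 0, 0, 0, 0, 0, 0, 0, 0])]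
  elts := []
  commWit := [[], [[]], [[], []], [[], [0], [0]], [[], [], [0, 0], [0, 0]], [[], [], [], [1], [2]]]
  conjWit := [[[0], [1], [2]], [[0], [1], [2]], [[0], [1], [2]], [[0], [0, 1], [2]], [[0], [1], [0, 2]], [[0], [1], [2]]]
  ext := []

/-- Power witnesses. -/
def threeChainP : List (List ℕ) := [[], [], []]

/-- Conjugation witnesses. -/
def threeChainC : List (List (List ℕ)) := [[], [[0]], [[0], [1]]]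

end Cfsg.Agent.Co2Mult
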