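import Cfsg.Agent.Lib.Co2Mult.ThreeDefs
import Cfsg.Agent.Lib.Co2Mult.ThreeData

/-! Kernel checks for the prime 3 in the multiplier of a minimal vector stabiliser. -/

set_option autoImplicit false
set_option maxRecDepth 100000
set_option Elab.async false

namespace Cfsg.Agent.Co2Mult

open Cfsg Cfsg.Agent.Leech
open Cfsg.Agent.PermCert (allBelow allBelow_spec)

theorem syl_good0 : goodMat sylMat0 = true := by decide +kernel

theorem syl_good1 : goodMat sylMat1 = true := by decide +kernel

theorem syl_good2 : goodMat sylMat2 = true := by decide +kernel

theorem syl_good3 : goodMat sylMat3 = true := by decide +kernel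

theorem syl_good4 : goodMat sylMat4 = true := by decide +kernel

theorem syl_good5 : goodMat sylMat5 = true := by decide +kernel

theorem fus_good0 : goodMat fusMat0 = true := by decide +kernel

theorem fus_good1 : goodMat fusMat1 = true := by decide +kernel

theorem fus_good2 : goodMat fusMat2 = true := by decide +kernel

theorem syl_all : sylMats.all goodMat = true := by
  rw [show sylMats = [sylMat0, sylMat1, sylMat2, sylMat3, sylMat4, sylMat5] from rfl]
  simp only [List.all_cons, List.all_nil, syl_good0, syl_good1, syl_good2, syl_good3, syl_good4, syl_good5,
    Bool.and_self]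

theorem fus_all : fusMats.all goodMat = true := by
  rw [show fusMats = [fusMat0, fusMat1, fusMat2] from rfl]
  simp only [List.all_cons, List.all_nil, fus_good0, fus_good1, fus_good2, Bool.and_self]

theorem pow_ok0 : powOK threeData sylMats 0 = true := by decide +kernel

theorem pow_ok1 : powOK threeData sylMats 1 = true := by decide +kernel

theorem pow_ok2 : powOK threeData sylMats 2 = true := by decide +kernel

theorem pow_ok3 : powOK threeData sylMats 3 = true := by decide +kernel

theorem pow_ok4 : powOK threeData sylMats 4 = true := by decide +kernel

theorem pow_ok5 : powOK threeData sylMats 5 = true := by decide +kernel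

theorem fus_ok0 : fusOK threeData sylMats fusMats 0 = true := by decide +kernel

theorem fus_ok1 : fusOK threeData sylMats fusMats 1 = true := by decide +kernel

theorem fus_ok2 : fusOK threeData sylMats fusMats 2 = true := by decide +kernel

theorem three_rules : rulesOK threeData sylMats fusMats = true := by
  have ha : threeData.a.length = 6 := by decide +kernel
  have hf : threeData.fus.length = 3 := by decide +kernel
  have hl : (Nat.beq threeData.a.length sylMats.length && Nat.beq threeData.fus.length fusMats.length) = true := by
    decide +kernel
  rw [Bool.and_eq_true] at hl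
  simp only [rulesOK, Bool.and_eq_true, syl_all, fus_all, true_and]
  refine ⟨⟨hl, allBelow_intro fun i hi => ?_⟩, allBelow_intro fun t ht => ?_⟩
  · rw [ha] at hi
    obtain rfl | rfl | rfl | rfl | rfl | rfl : i = 0 ∨ i = 1 ∨ i = 2 ∨ i = 3 ∨ i = 4 ∨ i = 5 := by omega
    exacts [pow_ok0, pow_ok1, pow_ok2, pow_ok3, pow_ok4, pow_ok5]
  · rw [hf] at ht
    obtain rfl | rfl | rfl : t = 0 ∨ t = 1 ∨ t = 2 := by omega
    exacts [fus_ok0, fus_ok1, fus_ok2]

theorem three_wf : Tails.wfOK threeData = true := by decide +kernel

theorem three_rows : PermSchur.rowsOK threeData = true := by decide +kernel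

theorem three_rels : threeData.rels.all (fun r => match r with
    | .assoc a b c => (a ++ b ++ c).all (fun q => Nat.blt q threeData.a.length) | .fuse .. => true) = true := by
  decide +kernel

theorem three_derived : Tails.derivedOK threeData = true := by decide +kernel

theorem three_gsNe : gsNeOK threeData sylMats = true := by decide +kernel

theorem three_seq : seqNewOK threeData sylMats = true := by decide +kernel

theorem three_chainOK :
    allBelow (Tails.chainAt threeData threeChainP threeChainC) threeData.gs.length = true := by
  decide +kernel

theorem three_lens : threeData.p = 3 ∧ threeData.a.length = 6 ∧ sylMats.all goodMat = true :=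
  ⟨by decide +kernel, by decide +kernel, syl_all⟩

end Cfsg.Agent.Co2Mult
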